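import Cfsg.Agent.H525.L2.Index
import Cfsg.Agent.H525.PslK
import Cfsg.Agent.ClassicalGeometry.PSL2Basic
import Cfsg.Agent.S0143

/-!
# `PSL₂(F)` as an image of `SL₂(F)`
-/

set_option autoImplicit false
set_option linter.unusedSectionVars false

namespace Cfsg.Agent.H525.L2

open Matrix Cfsg.Agent.H670.RankOne Cfsg.Agent.H670.SL2

universe u

/-- `S` is `SL₂(F)` modulo `±1`. -/
structure Fr (S : Type u) [Group S] (F : Type) [Field F] where
  f : SpecialLinearGroup (Fin 2) F →* S
  surj : Function.Surjective f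
  ker : ∀ g, f g = 1 ↔ g = 1 ∨ g = -1

namespace Fr

section Basic

variable {S : Type u} [Group S] {F : Type} [Field F] (D : Fr S F)

def X (r : F) : S := D.f (x r)
def T (a : Fˣ) : S := D.f (tor a)

theorem X_add (r s : F) : D.X (r + s) = D.X r * D.X s := by
  show D.f (x (r + s)) = D.f (x r) * D.f (x s)
  rw [← map_mul]
  congr 1
  exact (data F).X_add r s

theorem X_eq_one {r : F} (h : D.X r = 1) : r = 0 := by
  rcases (D.ker _).1 h with h1 | h1
  · exact congrArg e01 h1
  · have := congrArg e01 h1
    have h2 : e01 (-1 : SpecialLinearGroup (Fin 2) F) = 0 := by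
      show ((-1 : SpecialLinearGroup (Fin 2) F) : Matrix (Fin 2) (Fin 2) F) 0 1 = 0
      simp
    rw [h2] at this
    exact this

theorem X_zero : D.X 0 = 1 := by
  have h : x (0 : F) = 1 := (data F).X_zero
  show D.f (x 0) = 1
  rw [h, map_one]

theorem X_neg (r : F) : D.X (-r) = (D.X r)⁻¹ := by
  rw [eq_inv_iff_mul_eq_one, ← X_add, neg_add_cancel, X_zero]

theorem T_X (a : Fˣ) (r : F) : D.T a * D.X r * (D.T a)⁻¹ = D.X ((a : F) ^ 2 * r) := by
  rw [mul_inv_eq_iff_eq_mul]
  show D.f (tor a) * D.f (x r) = D.f (x _) * D.f (tor a)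
  rw [← map_mul, ← map_mul, tor_mul_x]

theorem T_pow (a : Fˣ) (k : ℕ) : D.T a ^ k = D.T (a ^ k) := by
  show D.f (tor a) ^ k = D.f (tor (a ^ k))
  rw [map_pow, map_pow]

end Basic

section Fin

variable {S : Type u} [Group S] [Finite S] {F : Type} [Field F] [Fintype F] (D : Fr S F)

theorem neg_one_ne (hodd : Odd (Fintype.card F)) : (-1 : SpecialLinearGroup (Fin 2) F) ≠ 1 := by
  intro h
  have h1 := congrArg e00 h
  have h2 : e00 (-1 : SpecialLinearGroup (Fin 2) F) = -1 := by
    show ((-1 : SpecialLinearGroup (Fin 2) F) : Matrix (Fin 2) (Fin 2) F) 0 0 = -1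
    simp
  have h3 : e00 (1 : SpecialLinearGroup (Fin 2) F) = 1 := by
    show ((1 : SpecialLinearGroup (Fin 2) F) : Matrix (Fin 2) (Fin 2) F) 0 0 = 1
    simp
  rw [h2, h3] at h1
  have h4 : (2 : F) = 0 := by linear_combination -h1
  exact Cfsg.Agent.H525.PslK.two_ne hodd h4

theorem card_ker_odd (hodd : Odd (Fintype.card F)) : Nat.card D.f.ker = 2 := by
  have h1 : (D.f.ker : Set (SpecialLinearGroup (Fin 2) F)) = {1, -1} := by
    ext g
    exact D.ker g
  have h2 : Nat.card D.f.ker = Set.ncard (D.f.ker : Set (SpecialLinearGroup (Fin 2) F)) := rfl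
  rw [h2, h1, Set.ncard_pair (neg_one_ne hodd).symm]

include D in

theorem card_odd (hodd : Odd (Fintype.card F)) : 2 * Nat.card S =
    (Fintype.card F + 1) * (Fintype.card F * (Fintype.card F - 1)) := by
  have h1 := D.f.ker.card_mul_index
  rw [Subgroup.index_ker, D.card_ker_odd hodd, D.f.range_eq_top.2 D.surj,
    Nat.card_congr (Subgroup.topEquiv (G := S)).toEquiv] at h1
  rw [h1, card_SL]

theorem f_inj (heven : Even (Fintype.card F)) : Function.Injective D.f := by
  rw [injective_iff_map_eq_one]
  intro g hg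
  rcases (D.ker g).1 hg with h | h
  · exact h
  · rw [h]
    have hF : ringChar F = 2 := FiniteField.even_card_iff_char_two.2 (Nat.even_iff.1 heven)
    have hchar : CharP F 2 := ringChar.of_eq hF
    apply ext4 <;> simp [e00, e01, e10, e11, CharTwo.neg_eq]

include D in
theorem card_even (heven : Even (Fintype.card F)) : Nat.card S =
    (Fintype.card F + 1) * (Fintype.card F * (Fintype.card F - 1)) := by
  rw [← card_SL]
  exact (Nat.card_congr (Equiv.ofBijective D.f ⟨D.f_inj heven, D.surj⟩)).symm

include D in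
/-- The order of a subgroup of prime power index is prime to the index. -/
theorem not_dvd (h4 : 4 ≤ Fintype.card F) (H : Subgroup S) {l a : ℕ} (hl : l.Prime) (ha : a ≠ 0)
    (hH : H.index = l ^ a) : ¬ l ∣ Nat.card H := by
  obtain ⟨p, hchar⟩ := CharP.exists F
  obtain ⟨n, hp, hq⟩ := FiniteField.card F p
  let H' : Subgroup (SpecialLinearGroup (Fin 2) F) := H.comap D.f
  have hH' : H'.index = l ^ a := by
    rw [← hH]
    exact Subgroup.index_comap_of_surjective H D.surj
  have hcS := H.card_mul_index
  have hcH := H'.card_mul_index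
  rw [hH] at hcS
  rw [hH', card_SL] at hcH
  have hdvd : Nat.card H ∣ Nat.card H' := by
    have h1 : Nat.card S ∣ (Fintype.card F + 1) * (Fintype.card F * (Fintype.card F - 1)) := by
      rcases Nat.even_or_odd (Fintype.card F) with he | ho
      · rw [D.card_even he]
      · rw [← D.card_odd ho]; exact Dvd.intro_left 2 rfl
    rw [← hcS, ← hcH] at h1
    exact Nat.dvd_of_mul_dvd_mul_right (pow_pos hl.pos a) h1
  by_cases hlp : l = p
  · subst hlp
    intro h
    exact index_case_two H' h4 hp hq ha hH' (h.trans hdvd)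
  · rcases index_case_one H' h4 hp hq hl ha hH' hlp with h | ⟨rfl, ho, h⟩
    · intro h1
      exact h (h1.trans hdvd)
    · intro h1
      apply h
      have h2 : Nat.card H' = 2 * Nat.card H := by
        have h3 := D.card_odd ho
        rw [← hcS, ← hcH] at h3
        have h4 : Nat.card H' * 2 ^ a = (2 * Nat.card H) * 2 ^ a := by rw [← h3]; ring
        exact Nat.eq_of_mul_eq_mul_right (pow_pos hl.pos a) h4
      rw [h2]
      exact Nat.mul_dvd_mul_left 2 h1

end Fin

end Fr

/-- The frame given by an isomorphism. -/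
noncomputable def frame {S : Type u} [Group S] {F : Type} [Field F]
    (e : S ≃* Matrix.ProjectiveSpecialLinearGroup (Fin 2) F) : Fr S F where
  f := e.symm.toMonoidHom.comp (QuotientGroup.mk' _)
  surj := e.symm.surjective.comp (QuotientGroup.mk'_surjective _)
  ker g := by
    show e.symm (QuotientGroup.mk' _ g) = 1 ↔ _
    rw [map_eq_one_iff _ e.symm.injective, QuotientGroup.mk'_apply, QuotientGroup.eq_one_iff]
    constructor
    · exact Cfsg.Agent.H525.PslK.eq_of_mem_center
    · rintro (rfl | rfl)
      · exact Subgroup.one_mem _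
      · exact Cfsg.Agent.H525.PslK.neg_one_mem_center

/-- A subgroup of prime power index of a simple group is not commutative. -/
theorem not_comm_of_index {S : Type u} [Group S] [Finite S] [IsSimpleGroup S]
    (hS : ¬ (Nat.card S).Prime) (H : Subgroup S) {l a : ℕ} (hl : l.Prime) (hH : H.index = l ^ a) :
    ¬ ∀ x ∈ H, ∀ y ∈ H, x * y = y * x := by
  intro hc
  rcases eq_or_ne H ⊥ with h | h
  · rw [h, Subgroup.index_bot] at hH
    have hp : IsPGroup l S := IsPGroup.of_card hH
    have : Fact l.Prime := ⟨hl⟩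
    have hnt : Nontrivial (Subgroup.center S) := hp.center_nontrivial
    have htop : Subgroup.center S = ⊤ :=
      (Subgroup.Normal.eq_bot_or_eq_top (H := Subgroup.center S) inferInstance).resolve_left
        (fun h => by
          have := (Subgroup.nontrivial_iff_ne_bot _).1 hnt
          exact this h)
    obtain ⟨g, hg⟩ := exists_ne (1 : S)
    apply hS
    refine Cfsg.Agent.S0143.result l 0 hl g hg ?_
    rw [pow_zero, Subgroup.index_eq_one, eq_top_iff]
    intro y _
    rw [Subgroup.mem_centralizer_singleton_iff]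
    have : y ∈ Subgroup.center S := by rw [htop]; trivial
    exact (Subgroup.mem_center_iff.1 this g).symm
  · obtain ⟨g, hg, hg1⟩ := (Subgroup.bot_or_exists_ne_one H).resolve_left h
    have hle : H ≤ Subgroup.centralizer ({g} : Set S) := by
      intro y hy
      rw [Subgroup.mem_centralizer_singleton_iff]
      exact hc y hy g hg
    obtain ⟨k, -, hk⟩ := (Nat.dvd_prime_pow hl).1 (hH ▸ Subgroup.index_dvd_of_le hle)
    exact hS (Cfsg.Agent.S0143.result l k hl g hg1 hk)

end Cfsg.Agent.H525.L2
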