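import Cfsg.Agent.H525.L2.Real
import Cfsg.Prelude.Def_Blocks

/-!
# Degrees over a linear character of a central kernel
-/

set_option autoImplicit false
set_option linter.unusedSectionVars false

namespace Cfsg.Agent.H525.L2

open Cfsg
open scoped ComplexConjugate
open Cfsg.Agent.Characters.Core
open Cfsg.Agent.H595.Count Cfsg.Agent.H595.Central

universe u v

/-- Divisible by two primes. -/
def Two (d : ℕ) : Prop := ∃ p q : ℕ, p.Prime ∧ q.Prime ∧ p ≠ q ∧ p * q ∣ d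

theorem Two.mono {d e : ℕ} (h : Two d) (hde : d ∣ e) : Two e := by
  obtain ⟨p, q, hp, hq, hpq, hd⟩ := h
  exact ⟨p, q, hp, hq, hpq, hd.trans hde⟩

theorem two_of {d r s : ℕ} (hr : r.Prime) (hs : s.Prime) (hrs : r ≠ s) (h1 : r ∣ d) (h2 : s ∣ d) :
    Two d :=
  ⟨r, s, hr, hs, hrs, Nat.Coprime.mul_dvd_of_dvd_of_dvd ((Nat.coprime_primes hr hs).2 hrs) h1 h2⟩

theorem eq_pow_of_not_two {d r : ℕ} (hd : d ≠ 0) (hr : r.Prime) (hrd : r ∣ d) (h : ¬ Two d) :
    ∃ a, a ≠ 0 ∧ d = r ^ a := by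
  have h1 := Nat.eq_prime_pow_of_unique_prime_dvd (n := d) (p := r) hd (fun {s} hs hsd => by
    by_contra hne
    exact h (two_of hr hs (Ne.symm hne) hrd hsd))
  refine ⟨_, ?_, h1⟩
  intro h0
  rw [h0, pow_zero] at h1
  rw [h1] at hrd
  exact hr.one_lt.ne' (Nat.dvd_one.1 hrd)

theorem deg_spec {G : Type*} [Group G] {χ : G → ℂ} (hχ : IsIrrCharacter G χ) :
    χ 1 = (charDegree χ : ℂ) ∧ 0 < charDegree χ := by
  obtain ⟨n, hn, hn'⟩ := isIrr_apply_one hχ
  have : charDegree χ = n := by simp [charDegree, hn']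
  rw [this]
  exact ⟨hn', hn⟩

section

variable {Q : Type u} [Group Q] [Finite Q] {S : Type v} [Group S] {π : Q →* S}
  (l : π.ker →* ℂˣ)

open Classical in
/-- The irreducible characters over `l`. -/
noncomputable def Ov [Fintype (IrrCharacter Q)] : Finset (IrrCharacter Q) :=
  Finset.univ.filter (fun β : IrrCharacter Q => Over π l (β : Q → ℂ))

theorem mem_Ov [Fintype (IrrCharacter Q)] {β : IrrCharacter Q} :
    β ∈ Ov l ↔ Over π l (β : Q → ℂ) := by
  classical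
  simp [Ov]

theorem index_eq (hs : Function.Surjective π) : π.ker.index = Nat.card S := by
  rw [Subgroup.index_ker, π.range_eq_top.2 hs]
  exact Nat.card_congr (Subgroup.topEquiv (G := S)).toEquiv

theorem sum_sq [Fintype (IrrCharacter Q)] (hs : Function.Surjective π)
    (hc : π.ker ≤ Subgroup.center Q) :
    ∑ β ∈ Ov l, charDegree (β : Q → ℂ) ^ 2 = Nat.card S := by
  classical
  have h := sum_over l hc 1
  rw [dif_pos π.ker.one_mem] at h
  have h1 : l ⟨1, π.ker.one_mem⟩ = 1 := map_one l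
  rw [h1, Units.val_one, mul_one, index_eq hs] at h
  have h2 : ((∑ β ∈ Ov l, charDegree (β : Q → ℂ) ^ 2 : ℕ) : ℂ) = Nat.card S := by
    rw [← h, Nat.cast_sum]
    refine Finset.sum_congr (by rfl) fun β _ => ?_
    rw [(deg_spec β.2).1, Nat.cast_pow, pow_two]
  exact_mod_cast h2

theorem sum_deg_mul [Fintype (IrrCharacter Q)] (hc : π.ker ≤ Subgroup.center Q) {g : Q}
    (hg : g ∉ π.ker) : ∑ β ∈ Ov l, (charDegree (β : Q → ℂ) : ℂ) * (β : Q → ℂ) g = 0 := by
  classical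
  have h := sum_over l hc g
  rw [dif_neg hg] at h
  rw [← h]
  refine Finset.sum_congr (by rfl) fun β _ => ?_
  rw [(deg_spec β.2).1]

theorem exists_over [Finite S] (hs : Function.Surjective π) (hc : π.ker ≤ Subgroup.center Q) :
    ∃ β : IrrCharacter Q, Over π l (β : Q → ℂ) := by
  classical
  have := finite_irr (G := Q)
  have := Fintype.ofFinite (IrrCharacter Q)
  by_contra h
  push Not at h
  have h1 := sum_sq l hs hc
  rw [Finset.sum_eq_zero] at h1
  · exact Nat.card_pos.ne h1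
  · intro β hβ
    exact absurd ((mem_Ov l).1 hβ) (h β)

/-- Either `l` extends to `Q`, or all degrees over `l` are powers of one prime. -/
theorem prime_degrees [Finite S] (hs : Function.Surjective π) (hc : π.ker ≤ Subgroup.center Q)
    (hno : ∀ β : IrrCharacter Q, Over π l (β : Q → ℂ) → ¬ Two (charDegree (β : Q → ℂ)))
    (hnl : ¬ ∃ lam : Q →* ℂˣ, ∀ z : π.ker, lam z = l z) :
    ∃ r : ℕ, r.Prime ∧ ∃ a : ℕ, a ≠ 0 ∧
      (∀ β : IrrCharacter Q, Over π l (β : Q → ℂ) → ∃ b, a ≤ b ∧ charDegree (β : Q → ℂ) = r ^ b) ∧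
      ∃ β : IrrCharacter Q, Over π l (β : Q → ℂ) ∧ charDegree (β : Q → ℂ) = r ^ a := by
  classical
  obtain ⟨β0, h0⟩ := exists_over l hs hc
  have hcop : ∀ β γ : IrrCharacter Q, Over π l (β : Q → ℂ) → Over π l (γ : Q → ℂ) →
      ¬ (charDegree (β : Q → ℂ)).Coprime (charDegree (γ : Q → ℂ)) := by
    intro β γ hβ hγ hcop
    exact hnl (exists_linear hc β.2 hβ (deg_spec β.2).1 γ.2 hγ (deg_spec γ.2).1 hcop)
  have h1 : charDegree (β0 : Q → ℂ) ≠ 1 := by
    intro h1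
    apply hcop β0 β0 h0 h0
    rw [h1]
    exact Nat.coprime_one_left 1
  set r := (charDegree (β0 : Q → ℂ)).minFac with hr
  have hrp : r.Prime := Nat.minFac_prime h1
  have hall : ∀ β : IrrCharacter Q, Over π l (β : Q → ℂ) →
      ∃ b, b ≠ 0 ∧ charDegree (β : Q → ℂ) = r ^ b := by
    intro β hβ
    refine eq_pow_of_not_two (deg_spec β.2).2.ne' hrp ?_ (hno β hβ)
    obtain ⟨s, hs, hs1, hs2⟩ := Nat.Prime.not_coprime_iff_dvd.1 (hcop β β0 hβ h0)
    rcases eq_or_ne s r with h | h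
    · rwa [← h]
    · exact absurd (two_of hs hrp h hs2 (Nat.minFac_dvd _)) (hno β0 h0)
  have hex : ∃ a, ∃ β : IrrCharacter Q, Over π l (β : Q → ℂ) ∧ charDegree (β : Q → ℂ) = r ^ a := by
    obtain ⟨a, -, ha⟩ := hall β0 h0
    exact ⟨a, β0, h0, ha⟩
  refine ⟨r, hrp, Nat.find hex, ?_, ?_, Nat.find_spec hex⟩
  · intro hz
    obtain ⟨β, hβ, hβ'⟩ := Nat.find_spec hex
    obtain ⟨b, hb, hb'⟩ := hall β hβ
    rw [hz, hb'] at hβ'
    exact hb (Nat.pow_right_injective hrp.two_le hβ')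
  · intro β hβ
    obtain ⟨b, hb, hb'⟩ := hall β hβ
    exact ⟨b, Nat.find_min' hex ⟨β, hβ, hb'⟩, hb'⟩

theorem pow_dvd_card (hs : Function.Surjective π) (hc : π.ker ≤ Subgroup.center Q) {m : ℕ}
    (h : ∀ β : IrrCharacter Q, Over π l (β : Q → ℂ) → m ∣ charDegree (β : Q → ℂ)) :
    m ^ 2 ∣ Nat.card S := by
  classical
  have := finite_irr (G := Q)
  have := Fintype.ofFinite (IrrCharacter Q)
  rw [← sum_sq l hs hc]
  exact Finset.dvd_sum fun β hβ => pow_dvd_pow_of_dvd (h β ((mem_Ov l).1 hβ)) 2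

theorem deg_sq_le (hs : Function.Surjective π) (hc : π.ker ≤ Subgroup.center Q)
    (β : IrrCharacter Q) (hβ : Over π l (β : Q → ℂ)) :
    charDegree (β : Q → ℂ) ^ 2 ≤ Nat.card S := by
  classical
  have := finite_irr (G := Q)
  have := Fintype.ofFinite (IrrCharacter Q)
  rw [← sum_sq l hs hc]
  exact Finset.single_le_sum (f := fun β : IrrCharacter Q => charDegree (β : Q → ℂ) ^ 2)
    (fun _ _ => Nat.zero_le _) ((mem_Ov l).2 hβ)

/-- The counting of the multiplicities. -/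
theorem real_sum [Fintype (IrrCharacter Q)] [Finite S] [IsSimpleGroup S]
    (hs : Function.Surjective π) (hc : π.ker ≤ Subgroup.center Q) {s : ℕ} (hs35 : s = 3 ∨ s = 5)
    {x w : Q} (hx : ∀ k, 0 < k → k < s → x ^ k ∉ π.ker) (hxs : x ^ s ∈ π.ker)
    (hw : w * x * w⁻¹ * x ∈ π.ker) :
    ∃ a : IrrCharacter Q → ℕ, (∀ β : IrrCharacter Q, Over π l (β : Q → ℂ) →
      (a β = charDegree (β : Q → ℂ) → charDegree (β : Q → ℂ) = 1) ∧
      a β ≤ charDegree (β : Q → ℂ) ∧ a β % 2 = charDegree (β : Q → ℂ) % 2) ∧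
      s * ∑ β ∈ Ov l, charDegree (β : Q → ℂ) * a β = Nat.card S := by
  classical
  have hx1 : π x ≠ 1 := by
    intro h
    apply hx 1 one_pos (by omega)
    rw [pow_one]
    exact h
  obtain ⟨c, hcc⟩ := real_mult hs hc l hs35 hx1 hxs hw
  have hch : ∀ β : IrrCharacter Q, ∃ a : ℕ, Over π l (β : Q → ℂ) →
      (s : ℂ) * a = ∑ k ∈ Finset.range s, c ^ k * (β : Q → ℂ) (x ^ k) ∧
      (a = charDegree (β : Q → ℂ) → charDegree (β : Q → ℂ) = 1) ∧
        a ≤ charDegree (β : Q → ℂ) ∧ a % 2 = charDegree (β : Q → ℂ) % 2 := by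
    intro β
    by_cases h : Over π l (β : Q → ℂ)
    · obtain ⟨a, ha⟩ := hcc (β : Q → ℂ) β.2 h _ (deg_spec β.2).1
      exact ⟨a, fun _ => ha⟩
    · exact ⟨0, fun h' => absurd h' h⟩
  choose a ha using hch
  refine ⟨a, fun β hβ => (ha β hβ).2, ?_⟩
  have h1 : ((s * ∑ β ∈ Ov l, charDegree (β : Q → ℂ) * a β : ℕ) : ℂ) = Nat.card S := by
    push_cast
    rw [Finset.mul_sum]
    have e1 : ∀ β ∈ Ov l, (s : ℂ) * ((charDegree (β : Q → ℂ) : ℂ) * a β) =
        ∑ k ∈ Finset.range s, c ^ k * ((charDegree (β : Q → ℂ) : ℂ) * (β : Q → ℂ) (x ^ k)) := by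
      intro β hβ
      rw [mul_left_comm, (ha β ((mem_Ov l).1 hβ)).1, Finset.mul_sum]
      exact Finset.sum_congr rfl fun k _ => by ring
    rw [Finset.sum_congr rfl e1, Finset.sum_comm]
    have e2 : ∀ k ∈ Finset.range s, ∑ β ∈ Ov l, c ^ k *
        ((charDegree (β : Q → ℂ) : ℂ) * (β : Q → ℂ) (x ^ k)) =
        if k = 0 then (Nat.card S : ℂ) else 0 := by
      intro k hk
      rw [← Finset.mul_sum]
      split_ifs with h0
      · subst h0
        rw [pow_zero, pow_zero, one_mul, ← sum_sq l hs hc, Nat.cast_sum]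
        refine Finset.sum_congr rfl fun β _ => ?_
        rw [(deg_spec β.2).1, Nat.cast_pow, pow_two]
      · rw [sum_deg_mul l hc (hx k (Nat.pos_of_ne_zero h0) (Finset.mem_range.1 hk)), mul_zero]
    rw [Finset.sum_congr rfl e2, Finset.sum_ite_eq' (Finset.range s) 0]
    rw [if_pos]
    rw [Finset.mem_range]
    omega
  exact_mod_cast h1

end

end Cfsg.Agent.H525.L2
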