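import Cfsg.Agent.H595.Triple

/-!
# Reduction of an invariant character to the central case

`θ ∈ Irr(N)` invariant in `Γ`: a finite group `Q`, a surjection `π : Q → Γ ⧸ N` with central kernel,
a faithful linear character `l` of the kernel, such that the irreducible characters of `Q` over `l`
give irreducible characters of `Γ` over `θ`.
-/

set_option autoImplicit false
set_option linter.unusedSectionVars false

namespace Cfsg.Agent.H525.L2

open Cfsg
open Cfsg.Agent.Characters.Core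
open Cfsg.Agent.H595.Count Cfsg.Agent.H595.Central Cfsg.Agent.H595.Triple

universe u

theorem exists_red_aux {Γ : Type u} [Group Γ] [Finite Γ] (N : Subgroup Γ) [hN : N.Normal]
    (θ : IrrCharacter N) (hinv : CInv N (θ : N → ℂ)) :
    ∃ (Q : Type u) (_ : Group Q) (_ : Finite Q) (π : Q →* Γ ⧸ N) (l : π.ker →* ℂˣ),
      Function.Surjective π ∧ π.ker ≤ Subgroup.center Q ∧
      ∀ β : IrrCharacter Q,
        (∀ (a : Q) (z : π.ker), (β : Q → ℂ) (a * z) = (β : Q → ℂ) a * l z) →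
        ∃ χ : IrrCharacter Γ, ∀ n : N, (χ : Γ → ℂ) n = (β : Q → ℂ) 1 * (θ : N → ℂ) n := by
  obtain ⟨Δ, hg, hfin, π, s, χR, h⟩ := exists_cov N θ hinv
  have hLn := h.normal
  let L : Subgroup Δ := s.range
  let mk : Δ →* Δ ⧸ L := QuotientGroup.mk' L
  have hmk : Function.Surjective mk := QuotientGroup.mk'_surjective L
  have hLle : L ≤ ((QuotientGroup.mk' N).comp π).ker := by
    rintro _ ⟨n, rfl⟩
    show ((π (s n) : Γ) : Γ ⧸ N) = 1
    rw [h.section_]
    exact (QuotientGroup.eq_one_iff _).2 n.2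
  let P : Δ ⧸ L →* Γ ⧸ N := QuotientGroup.lift L ((QuotientGroup.mk' N).comp π) hLle
  have hP : ∀ x, P (mk x) = ((π x : Γ) : Γ ⧸ N) := fun _ => rfl
  have hker : ∀ y : Δ ⧸ L, y ∈ P.ker → ∃ z, π z = 1 ∧ mk z = y := by
    intro y hy
    obtain ⟨x, rfl⟩ := hmk y
    rw [MonoidHom.mem_ker, hP] at hy
    obtain ⟨n, z, hz, rfl⟩ := h.comap_eq x ((QuotientGroup.eq_one_iff _).1 hy)
    refine ⟨z, hz, ?_⟩
    rw [map_mul]
    have : mk (s n) = 1 := (QuotientGroup.eq_one_iff _).2 ⟨n, rfl⟩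
    rw [this, one_mul]
  -- the linear character
  obtain ⟨c, hc, -⟩ := Cfsg.Agent.CharactersDeep.Extraspecial.exists_central_hom h.irr
  let c' : π.ker →* ℂˣ := c.comp (Subgroup.inclusion h.ker_le)
  have hc' : ∀ (x : Δ) (z : π.ker), χR (x * z) = χR x * c' z := fun x z =>
    hc x (Subgroup.inclusion h.ker_le z)
  let f : π.ker →* P.ker := (mk.comp π.ker.subtype).codRestrict P.ker (fun z => by
    rw [MonoidHom.mem_ker]
    show ((π z : Γ) : Γ ⧸ N) = 1
    rw [MonoidHom.mem_ker.1 z.2]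
    rfl)
  have hfb : Function.Bijective f := by
    constructor
    · rw [injective_iff_map_eq_one]
      intro z hz
      have h1 : mk (z : Δ) = 1 := congrArg (fun y : P.ker => (y : Δ ⧸ L)) hz
      have h2 : (z : Δ) ∈ L := (QuotientGroup.eq_one_iff _).1 h1
      exact Subtype.ext (h.disj (MonoidHom.mem_ker.1 z.2) h2)
    · rintro ⟨y, hy⟩
      obtain ⟨z, hz, hzy⟩ := hker y hy
      exact ⟨⟨z, MonoidHom.mem_ker.2 hz⟩, Subtype.ext hzy⟩
  let e : π.ker ≃* P.ker := MulEquiv.ofBijective f hfb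
  let l : P.ker →* ℂˣ := (c'⁻¹).comp e.symm.toMonoidHom
  have hl : ∀ z : π.ker, l (e z) = (c' z)⁻¹ := by
    intro z
    show (c'⁻¹) (e.symm (e z)) = _
    rw [e.symm_apply_apply]
    rfl
  refine ⟨Δ ⧸ L, inferInstance, inferInstance, P, l, ?_, ?_, ?_⟩
  · intro y
    obtain ⟨g, rfl⟩ := QuotientGroup.mk_surjective y
    obtain ⟨x, rfl⟩ := h.surj g
    exact ⟨mk x, rfl⟩
  · intro y hy
    obtain ⟨z, hz, rfl⟩ := hker y hy
    rw [Subgroup.mem_center_iff]
    intro q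
    obtain ⟨x, rfl⟩ := hmk q
    rw [← map_mul, ← map_mul, Subgroup.mem_center_iff.1 (h.ker_le (MonoidHom.mem_ker.2 hz)) x]
  · intro β hβ
    have hχN : IsIrrCharacter N (fun n => χR (s n)) := by
      have : (fun n => χR (s n)) = θ := funext h.ext
      rw [this]
      exact θ.2
    let s'' : N →* L := s.codRestrict L (fun n => ⟨n, rfl⟩)
    have hirr : IsIrrCharacter Δ (fun x => (β : Δ ⧸ L → ℂ) (mk x) * χR x) := by
      refine isIrr_mul_inflate L h.irr (isIrr_of_comp s'' (isCharacter_comp L.subtype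
        (isIrr_isCharacter h.irr)) hχN) (isIrr_comp mk hmk β.2) ?_
      intro x hx
      have h1 : mk x = 1 := (QuotientGroup.eq_one_iff _).2 hx
      show (β : Δ ⧸ L → ℂ) (mk x) = (β : Δ ⧸ L → ℂ) (mk 1)
      rw [h1, map_one]
    let ψ : IrrCharacter Δ := ⟨_, hirr⟩
    have hψ : ∀ x, (ψ : Δ → ℂ) x = (β : Δ ⧸ L → ℂ) (mk x) * χR x := fun _ => rfl
    obtain ⟨χ, hχ⟩ := descend π h.surj ψ (by
      intro x k hk
      have h1 : mk k = (e ⟨k, MonoidHom.mem_ker.2 hk⟩ : Δ ⧸ L) := rfl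
      rw [hψ, hψ, map_mul, h1, hβ, hl]
      have h2 : χR (x * k : Δ) = χR x * c' ⟨k, MonoidHom.mem_ker.2 hk⟩ :=
        hc' x ⟨k, MonoidHom.mem_ker.2 hk⟩
      rw [h2, Units.val_inv_eq_inv_val]
      have h3 : ((c' ⟨k, MonoidHom.mem_ker.2 hk⟩ : ℂˣ) : ℂ) ≠ 0 := Units.ne_zero _
      field_simp)
    refine ⟨χ, ?_⟩
    intro n
    rw [← h.section_ n, hχ, hψ]
    have h2 : mk (s n) = 1 := (QuotientGroup.eq_one_iff _).2 ⟨n, rfl⟩
    rw [h2, h.ext]

/-- **Reduction to the central case**, with a faithful linear character of the central kernel. -/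
theorem exists_red {Γ : Type u} [Group Γ] [Finite Γ] (N : Subgroup Γ) [hN : N.Normal]
    (θ : IrrCharacter N) (hinv : CInv N (θ : N → ℂ)) :
    ∃ (Q : Type u) (_ : Group Q) (_ : Finite Q) (π : Q →* Γ ⧸ N) (l : π.ker →* ℂˣ),
      Function.Surjective π ∧ π.ker ≤ Subgroup.center Q ∧ Function.Injective l ∧
      ∀ β : IrrCharacter Q,
        (∀ (a : Q) (z : π.ker), (β : Q → ℂ) (a * z) = (β : Q → ℂ) a * l z) →
        ∃ χ : IrrCharacter Γ, ∀ n : N, (χ : Γ → ℂ) n = (β : Q → ℂ) 1 * (θ : N → ℂ) n := by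
  obtain ⟨Q, hg, hfin, π, l, hs, hc, H⟩ := exists_red_aux N θ hinv
  let K : Subgroup Q := l.ker.map π.ker.subtype
  have hKle : K ≤ π.ker := by
    rintro _ ⟨z, -, rfl⟩
    exact z.2
  have hKn : K.Normal := ⟨fun x hx g => by
    rw [Subgroup.mem_center_iff.1 (hc (hKle hx)) g, mul_inv_cancel_right]
    exact hx⟩
  let mk : Q →* Q ⧸ K := QuotientGroup.mk' K
  have hmk : Function.Surjective mk := QuotientGroup.mk'_surjective K
  let P : Q ⧸ K →* Γ ⧸ N := QuotientGroup.lift K π hKle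
  have hP : ∀ x, P (mk x) = π x := fun _ => rfl
  let f : π.ker →* P.ker := (mk.comp π.ker.subtype).codRestrict P.ker (fun z => z.2)
  have hf : Function.Surjective f := by
    rintro ⟨y, hy⟩
    obtain ⟨x, rfl⟩ := hmk y
    exact ⟨⟨x, hy⟩, rfl⟩
  have hfk : f.ker = l.ker := by
    ext z
    constructor
    · intro hz
      have h1 : mk (z : Q) = 1 := congrArg (fun y : P.ker => (y : Q ⧸ K)) hz
      obtain ⟨z', hz', h2⟩ := (QuotientGroup.eq_one_iff _).1 h1
      rwa [← show z' = z from Subtype.ext h2]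
    · intro hz
      exact Subtype.ext ((QuotientGroup.eq_one_iff _).2 ⟨z, hz, rfl⟩)
  let l' : P.ker →* ℂˣ := f.liftOfSurjective hf ⟨l, hfk.le⟩
  have hl' : ∀ z, l' (f z) = l z := fun z => f.liftOfRightInverse_comp_apply _ _ ⟨l, hfk.le⟩ z
  refine ⟨Q ⧸ K, inferInstance, inferInstance, P, l', ?_, ?_, ?_, ?_⟩
  · intro y
    obtain ⟨x, rfl⟩ := hs y
    exact ⟨mk x, rfl⟩
  · intro y hy
    obtain ⟨z, rfl⟩ := hmk y
    rw [Subgroup.mem_center_iff]
    intro q
    obtain ⟨x, rfl⟩ := hmk q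
    rw [← map_mul, ← map_mul, Subgroup.mem_center_iff.1 (hc (show z ∈ π.ker from hy)) x]
  · rw [injective_iff_map_eq_one]
    intro y hy
    obtain ⟨z, rfl⟩ := hf y
    rw [hl'] at hy
    have : z ∈ f.ker := by
      rw [hfk]
      exact hy
    exact this
  · intro β hβ
    let β' : IrrCharacter Q := ⟨(β : Q ⧸ K → ℂ) ∘ mk, isIrr_comp mk hmk β.2⟩
    obtain ⟨χ, hχ⟩ := H β' (by
      intro a z
      show (β : Q ⧸ K → ℂ) (mk (a * z)) = (β : Q ⧸ K → ℂ) (mk a) * l z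
      rw [map_mul, ← hl']
      exact hβ (mk a) (f z))
    refine ⟨χ, fun n => ?_⟩
    rw [hχ n]
    show (β : Q ⧸ K → ℂ) (mk 1) * _ = _
    rw [map_one]

end Cfsg.Agent.H525.L2
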