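import Cfsg.Agent.H670.SL2Data

/-!
# Arithmetic and field lemmas, real elements of order 3 and 5 of `SL₂(F)`
-/

set_option autoImplicit false

namespace Cfsg.Agent.H525.L2

open Matrix Cfsg.Agent.H670.SL2

theorem exists_squares {F : Type} [Field F] [Fintype F]
    (h : (Even (Fintype.card F) ∧ 4 < Fintype.card F) ∨
      (Odd (Fintype.card F) ∧ 13 < Fintype.card F)) :
    ∃ a e : Fˣ, (a : F) ^ 2 + 1 = (e : F) ^ 2 ∧ ((a : F) ^ 2) ^ 2 + (a : F) ^ 2 + 1 ≠ 0 := by
  classical
  open Polynomial in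
  rcases h with ⟨he, h4⟩ | ⟨ho, h13⟩
  · have hchar : ringChar F = 2 := FiniteField.even_card_iff_char_two.2 (Nat.even_iff.1 he)
    let P : F[X] := X * ((X + 1) * (X ^ 2 + X + 1))
    have hP0 : P ≠ 0 := by
      refine mul_ne_zero X_ne_zero (mul_ne_zero ?_ ?_)
      · intro h
        have := congrArg (eval 0) h
        simp at this
      · intro h
        have := congrArg (eval 0) h
        simp at this
    have hdeg : P.natDegree < Fintype.card F := by
      refine lt_of_le_of_lt ?_ h4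
      show (X * ((X + 1) * (X ^ 2 + X + 1)) : F[X]).natDegree ≤ 4
      compute_degree
    obtain ⟨c, hc⟩ := Polynomial.exists_eval_ne_zero_of_natDegree_lt_card P hP0
      (by rw [Cardinal.mk_fintype]; exact_mod_cast hdeg)
    have hev : eval c P = c * ((c + 1) * (c ^ 2 + c + 1)) := by simp [P]
    rw [hev] at hc
    have h1 : c ≠ 0 := left_ne_zero_of_mul hc
    have h2 : c + 1 ≠ 0 := left_ne_zero_of_mul (right_ne_zero_of_mul hc)
    have h3 : c ^ 2 + c + 1 ≠ 0 := right_ne_zero_of_mul (right_ne_zero_of_mul hc)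
    obtain ⟨a, ha⟩ := FiniteField.isSquare_of_char_two hchar c
    obtain ⟨e, he'⟩ := FiniteField.isSquare_of_char_two hchar (c + 1)
    have ha0 : a ≠ 0 := by
      rintro rfl
      apply h1
      rw [ha, mul_zero]
    have he0 : e ≠ 0 := by
      rintro rfl
      apply h2
      rw [he', mul_zero]
    refine ⟨Units.mk0 a ha0, Units.mk0 e he0, ?_, ?_⟩
    · rw [Units.val_mk0, Units.val_mk0, pow_two, pow_two, ← ha, ← he']
    · rw [Units.val_mk0, pow_two a, ← ha]
      exact h3
  · have h2 : (2 : F) ≠ 0 := by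
      intro h
      have h1 : ringChar F = 2 := by
        have h2 : ringChar F ∣ 2 := (ringChar.spec F 2).1 (by exact_mod_cast h)
        rcases (Nat.dvd_prime Nat.prime_two).1 h2 with h3 | h3
        · exact absurd h3 CharP.ringChar_ne_one
        · exact h3
      have h3 := FiniteField.even_card_iff_char_two.1 h1
      rw [Nat.odd_iff] at ho
      omega
    let P : F[X] := X * ((X ^ 2 - 1) * ((X ^ 2 + 1) * ((1 - X ^ 2) ^ 4 + 4 * X ^ 2 * (1 - X ^ 2) ^ 2 +
      16 * X ^ 4)))
    have hP0 : P ≠ 0 := by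
      refine mul_ne_zero X_ne_zero (mul_ne_zero ?_ (mul_ne_zero ?_ ?_))
      · intro h
        have := congrArg (eval 0) h
        simp at this
      · intro h
        have := congrArg (eval 0) h
        simp at this
      · intro h
        have := congrArg (eval 0) h
        simp at this
    have hdeg : P.natDegree < Fintype.card F := by
      refine lt_of_le_of_lt ?_ h13
      show (X * ((X ^ 2 - 1) * ((X ^ 2 + 1) * ((1 - X ^ 2) ^ 4 + 4 * X ^ 2 * (1 - X ^ 2) ^ 2 +
      16 * X ^ 4))) : F[X]).natDegree ≤ 13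
      compute_degree
    obtain ⟨u, hu⟩ := Polynomial.exists_eval_ne_zero_of_natDegree_lt_card P hP0
      (by rw [Cardinal.mk_fintype]; exact_mod_cast hdeg)
    have hev : eval u P = u * ((u ^ 2 - 1) * ((u ^ 2 + 1) * ((1 - u ^ 2) ^ 4 +
      4 * u ^ 2 * (1 - u ^ 2) ^ 2 + 16 * u ^ 4))) := by simp [P]
    rw [hev] at hu
    have h1 : u ≠ 0 := left_ne_zero_of_mul hu
    have hu2 := right_ne_zero_of_mul hu
    have h3 : u ^ 2 - 1 ≠ 0 := left_ne_zero_of_mul hu2
    have hu3 := right_ne_zero_of_mul hu2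
    have h4 : u ^ 2 + 1 ≠ 0 := left_ne_zero_of_mul hu3
    have h5 := right_ne_zero_of_mul hu3
    have h6 : (1 - u ^ 2) / (2 * u) ≠ 0 := by
      refine div_ne_zero ?_ (mul_ne_zero h2 h1)
      intro h
      apply h3
      linear_combination -h
    have h7 : (u ^ 2 + 1) / (2 * u) ≠ 0 := div_ne_zero h4 (mul_ne_zero h2 h1)
    refine ⟨Units.mk0 _ h6, Units.mk0 _ h7, ?_, ?_⟩
    · rw [Units.val_mk0, Units.val_mk0]
      field_simp
      ring
    · rw [Units.val_mk0]
      intro h
      apply h5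
      have h8 : (1 - u ^ 2) ^ 4 + 4 * u ^ 2 * (1 - u ^ 2) ^ 2 + 16 * u ^ 4 =
          16 * u ^ 4 * ((((1 - u ^ 2) / (2 * u)) ^ 2) ^ 2 + ((1 - u ^ 2) / (2 * u)) ^ 2 + 1) := by
        field_simp
        ring
      rw [h8, h, mul_zero]

theorem arith_even {q r a : ℕ} (h4 : 4 ≤ q) (he : Even q) (hr : r.Prime) (ha : a ≠ 0)
    (hn : q - 1 ≤ r ^ a) (hd : (r ^ a) ^ 2 ∣ (q + 1) * (q * (q - 1))) : False := by
  have hpp : IsPrimePow ((r ^ a) ^ 2) := by
    rw [← pow_mul]
    exact (hr.isPrimePow.pow (by positivity))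
  obtain ⟨k, rfl⟩ : ∃ k, q = k + 1 := ⟨q - 1, by omega⟩
  rw [Nat.add_sub_cancel] at hn hd
  have hodd : Odd k := by
    rcases Nat.even_or_odd k with h | h
    · exfalso
      rw [Nat.even_add_one] at he
      exact he h
    · exact h
  have c1 : Nat.Coprime (k + 1) k := by simp
  have c2 : Nat.Coprime (k + 1 + 1) (k + 1) := by simp
  have c3 : Nat.Coprime (k + 1 + 1) k := by
    have : Nat.Coprime 2 k := Nat.coprime_two_left.2 hodd
    show Nat.Coprime (k + 2) k
    simpa using this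
  have hle : (r ^ a) ^ 2 ≤ k + 1 + 1 := by
    rcases (Nat.Coprime.isPrimePow_dvd_mul (Nat.Coprime.mul_right c2 c3) hpp).1 hd with h | h
    · exact Nat.le_of_dvd (by omega) h
    · rcases (Nat.Coprime.isPrimePow_dvd_mul c1 hpp).1 h with h | h
      · exact (Nat.le_of_dvd (by omega) h).trans (by omega)
      · exact (Nat.le_of_dvd (by omega) h).trans (by omega)
  nlinarith

theorem arith_odd {q r a N : ℕ} (h5 : 5 ≤ q) (ho : Odd q) (hr : r.Prime) (ha : a ≠ 0)
    (hN : 2 * N = (q + 1) * (q * (q - 1)))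
    (hn : q - 1 ≤ 2 * r ^ a) (hd : (r ^ a) ^ 2 ∣ N) : q = 5 ∧ r = 2 := by
  have hpp : IsPrimePow ((r ^ a) ^ 2) := by
    rw [← pow_mul]
    exact (hr.isPrimePow.pow (by positivity))
  have hD : r ≤ r ^ a := Nat.le_self_pow ha r
  have hr2 := hr.two_le
  -- the bound
  have hle : (r ^ a) ^ 2 ≤ q + 1 := by
    have hmod : q % 4 = 1 ∨ q % 4 = 3 := by
      rw [Nat.odd_iff] at ho
      omega
    rcases hmod with h | h
    · obtain ⟨k, rfl⟩ : ∃ k, q = 4 * k + 1 := ⟨q / 4, by omega⟩
      have e1 : N = (4 * k + 1) * (4 * k * (2 * k + 1)) := by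
        rw [Nat.add_sub_cancel] at hN
        have : 2 * N = 2 * ((4 * k + 1) * (4 * k * (2 * k + 1))) := by rw [hN]; ring
        exact Nat.eq_of_mul_eq_mul_left two_pos this
      have c1 : Nat.Coprime (4 * k + 1) (4 * k) := by simp
      have c2 : Nat.Coprime (4 * k + 1) (2 * k + 1) := by
        have h1 : 4 * k + 1 = 2 * k + (2 * k + 1) := by ring
        rw [h1, Nat.coprime_add_self_left]
        simp
      have c3 : Nat.Coprime (4 * k) (2 * k + 1) := by
        have h1 : 4 * k = 2 * (2 * k) := by ring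
        rw [h1]
        refine Nat.Coprime.mul_left ?_ (by simp)
        exact Nat.coprime_two_left.2 ⟨k, rfl⟩
      rw [e1] at hd
      rcases (Nat.Coprime.isPrimePow_dvd_mul (Nat.Coprime.mul_right c1 c2) hpp).1 hd with h | h
      · exact (Nat.le_of_dvd (by omega) h).trans (by omega)
      · rcases (Nat.Coprime.isPrimePow_dvd_mul c3 hpp).1 h with h | h
        · exact (Nat.le_of_dvd (by omega) h).trans (by omega)
        · exact (Nat.le_of_dvd (by omega) h).trans (by omega)
    · obtain ⟨k, rfl⟩ : ∃ k, q = 4 * k + 3 := ⟨q / 4, by omega⟩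
      have e1 : N = (4 * k + 3) * ((4 * k + 4) * (2 * k + 1)) := by
        have h0 : 4 * k + 3 - 1 = 4 * k + 2 := by omega
        rw [h0] at hN
        have : 2 * N = 2 * ((4 * k + 3) * ((4 * k + 4) * (2 * k + 1))) := by rw [hN]; ring
        exact Nat.eq_of_mul_eq_mul_left two_pos this
      have c1 : Nat.Coprime (4 * k + 3) (4 * k + 4) := Nat.coprime_self_add_right.2 (Nat.coprime_one_right _)
      have c2 : Nat.Coprime (4 * k + 3) (2 * k + 1) := by
        have h1 : 4 * k + 3 = (2 * k + 1 + 1) + (2 * k + 1) := by ring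
        rw [h1, Nat.coprime_add_self_left]
        simp
      have c3 : Nat.Coprime (4 * k + 4) (2 * k + 1) := by
        have h1 : 4 * k + 4 = 2 * (2 * k + 1 + 1) := by ring
        rw [h1]
        refine Nat.Coprime.mul_left ?_ (by simp)
        exact Nat.coprime_two_left.2 ⟨k, rfl⟩
      rw [e1] at hd
      rcases (Nat.Coprime.isPrimePow_dvd_mul (Nat.Coprime.mul_right c1 c2) hpp).1 hd with h | h
      · exact (Nat.le_of_dvd (by omega) h).trans (by omega)
      · rcases (Nat.Coprime.isPrimePow_dvd_mul c3 hpp).1 h with h | h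
        · exact (Nat.le_of_dvd (by omega) h).trans (by omega)
        · exact (Nat.le_of_dvd (by omega) h).trans (by omega)
  have hq : q = 5 := by
    obtain ⟨k, rfl⟩ : ∃ k, q = k + 1 := ⟨q - 1, by omega⟩
    rw [Nat.add_sub_cancel] at hn
    have h1 : k ≤ 5 := by nlinarith
    rw [Nat.odd_iff] at ho
    omega
  subst hq
  refine ⟨rfl, ?_⟩
  have hN' : N = 60 := by omega
  subst hN'
  have h1 : r ^ 2 ∣ 60 := (pow_dvd_pow_of_dvd (dvd_pow_self r ha) 2).trans hd
  have h2 : r ≤ 7 := by
    have := Nat.le_of_dvd (by norm_num) h1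
    nlinarith
  interval_cases r
  · rfl
  · norm_num at h1
  · norm_num at hr
  · norm_num at h1
  · norm_num at hr
  · norm_num at h1

section Mat

variable {F : Type} [Field F]

/-- The companion matrix. -/
def cmp (t : F) : SpecialLinearGroup (Fin 2) F := ⟨!![0, -1; 1, t], by simp [Matrix.det_fin_two_of]⟩

/-- The inverting element. -/
def inv2 {i : F} (hi : i * i = -1) : SpecialLinearGroup (Fin 2) F :=
  ⟨!![0, i; i, 0], by rw [Matrix.det_fin_two_of, hi]; ring⟩

theorem cmp00 (t : F) : e00 (cmp t) = 0 := rfl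
theorem cmp01 (t : F) : e01 (cmp t) = -1 := rfl
theorem cmp10 (t : F) : e10 (cmp t) = 1 := rfl
theorem cmp11 (t : F) : e11 (cmp t) = t := rfl

theorem one00 : e00 (1 : SpecialLinearGroup (Fin 2) F) = 1 := by
  show ((1 : SpecialLinearGroup (Fin 2) F) : Matrix (Fin 2) (Fin 2) F) 0 0 = 1
  simp
theorem one01 : e01 (1 : SpecialLinearGroup (Fin 2) F) = 0 := by
  show ((1 : SpecialLinearGroup (Fin 2) F) : Matrix (Fin 2) (Fin 2) F) 0 1 = 0
  simp
theorem one10 : e10 (1 : SpecialLinearGroup (Fin 2) F) = 0 := by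
  show ((1 : SpecialLinearGroup (Fin 2) F) : Matrix (Fin 2) (Fin 2) F) 1 0 = 0
  simp
theorem one11 : e11 (1 : SpecialLinearGroup (Fin 2) F) = 1 := by
  show ((1 : SpecialLinearGroup (Fin 2) F) : Matrix (Fin 2) (Fin 2) F) 1 1 = 1
  simp

theorem cmp_ne (t : F) : cmp t ≠ 1 ∧ cmp t ≠ -1 := by
  constructor
  · intro h
    have := congrArg e10 h
    rw [cmp10, one10] at this
    exact one_ne_zero this
  · intro h
    have := congrArg e10 h
    have h2 : e10 (-1 : SpecialLinearGroup (Fin 2) F) = 0 := by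
      show ((-1 : SpecialLinearGroup (Fin 2) F) : Matrix (Fin 2) (Fin 2) F) 1 0 = 0
      simp
    rw [cmp10, h2] at this
    exact one_ne_zero this

theorem cmp_cube : cmp (-1 : F) ^ 3 = 1 := by
  rw [pow_succ, pow_two]
  apply ext4 <;> simp only [mul00, mul01, mul10, mul11, cmp00, cmp01, cmp10, cmp11, one00, one01,
    one10, one11] <;> ring

theorem cmp_five {t : F} (ht : t ^ 2 + t - 1 = 0) : cmp t ^ 5 = 1 := by
  rw [pow_succ, pow_succ, pow_succ, pow_two]
  apply ext4 <;> simp only [mul00, mul01, mul10, mul11, cmp00, cmp01, cmp10, cmp11, one00, one01,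
    one10, one11]
  · linear_combination (-(t - 1)) * ht
  · linear_combination (-(t ^ 2 - t - 1)) * ht
  · linear_combination (t ^ 2 - t - 1) * ht
  · linear_combination (t ^ 3 - t ^ 2 - 2 * t + 1) * ht

theorem inv2_conj (t : F) {i : F} (hi : i * i = -1) :
    inv2 hi * cmp t * (inv2 hi)⁻¹ * cmp t = 1 := by
  have h1 : inv2 hi * cmp t = (cmp t)⁻¹ * inv2 hi := by
    rw [eq_inv_mul_iff_mul_eq]
    have a00 : e00 (inv2 hi) = 0 := rfl
    have a01 : e01 (inv2 hi) = i := rfl
    have a10 : e10 (inv2 hi) = i := rfl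
    have a11 : e11 (inv2 hi) = 0 := rfl
    apply ext4 <;> simp only [mul00, mul01, mul10, mul11, cmp00, cmp01, cmp10, cmp11, a00, a01, a10,
      a11] <;> ring
  rw [h1, mul_inv_cancel_right, inv_mul_cancel]

end Mat

end Cfsg.Agent.H525.L2
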