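import Cfsg.Agent.H525.L2.Unip2
import Cfsg.Agent.H525.L2.Arith

/-!
# Central extensions of `PSL₂(F)`: the linear character extends if no degree is divisible by two primes
-/

set_option autoImplicit false
set_option linter.unusedSectionVars false

namespace Cfsg.Agent.H525.L2

open Cfsg
open scoped ComplexConjugate
open Cfsg.Agent.Characters.Core

universe u

variable {Q S : Type u} [Group Q] [Finite Q] [Group S] [Finite S] [IsSimpleGroup S]
  {F : Type} [Field F] (D : Fr S F) {π : Q →* S}

include D

theorem real_data (hs : Function.Surjective π) {s : ℕ} (hsp : s.Prime) {t i : F}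
    (hi : i * i = -1) (ht : cmp t ^ s = 1) :
    ∃ x w : Q, (∀ k, 0 < k → k < s → x ^ k ∉ π.ker) ∧ x ^ s ∈ π.ker ∧
      w * x * w⁻¹ * x ∈ π.ker := by
  obtain ⟨x, hx⟩ := hs (D.f (cmp t))
  obtain ⟨w, hw⟩ := hs (D.f (inv2 hi))
  have hne : D.f (cmp t) ≠ 1 := by
    intro h
    rcases (D.ker _).1 h with h1 | h1
    · exact (cmp_ne t).1 h1
    · exact (cmp_ne t).2 h1
  have hord : orderOf (D.f (cmp t)) = s := by
    have : Fact s.Prime := ⟨hsp⟩
    refine orderOf_eq_prime ?_ hne
    rw [← map_pow, ht, map_one]
  refine ⟨x, w, ?_, ?_, ?_⟩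
  · intro k hk0 hks h
    rw [MonoidHom.mem_ker, map_pow, hx] at h
    have h1 := orderOf_dvd_of_pow_eq_one h
    rw [hord] at h1
    exact absurd (Nat.le_of_dvd hk0 h1) (by omega)
  · rw [MonoidHom.mem_ker, map_pow, hx, ← map_pow, ht, map_one]
  · rw [MonoidHom.mem_ker, map_mul, map_mul, map_mul, map_inv, hx, hw, ← map_mul, ← map_inv,
      ← map_mul, ← map_mul, inv2_conj, map_one]

theorem contra60 (hs : Function.Surjective π) (hc : π.ker ≤ Subgroup.center Q)
    (l : π.ker →* ℂˣ) (hS : Nat.card S = 60) {i : F} (hi : i * i = -1)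
    (hall : ∀ β : IrrCharacter Q, Over π l (β : Q → ℂ) → ∃ b, 1 ≤ b ∧ charDegree (β : Q → ℂ) = 2 ^ b) :
    False := by
  classical
  have := finite_irr (G := Q)
  have := Fintype.ofFinite (IrrCharacter Q)
  obtain ⟨x, w, h1, h2, h3⟩ := real_data D hs (s := 3) Nat.prime_three hi cmp_cube
  obtain ⟨a, ha, hsum⟩ := real_sum l hs hc (Or.inl rfl) h1 h2 h3
  rw [hS] at hsum
  have hdvd : 8 ∣ ∑ β ∈ Ov l, charDegree (β : Q → ℂ) * a β := by
    refine Finset.dvd_sum fun β hβ => ?_
    have ho := (mem_Ov l).1 hβ
    obtain ⟨b, hb, hb'⟩ := hall β ho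
    have hle := deg_sq_le l hs hc β ho
    obtain ⟨ha1, ha2, ha3⟩ := ha β ho
    rw [hS] at hle
    rw [hb'] at hle ha1 ha2 ha3 ⊢
    have hb2 : b ≤ 2 := by
      by_contra hb2
      have : 2 ^ 3 ≤ 2 ^ b := Nat.pow_le_pow_right (by norm_num) (by omega)
      nlinarith
    have hcases : b = 1 ∨ b = 2 := by omega
    rcases hcases with rfl | rfl
    · have : a β = 0 := by
        have h4 : a β ≠ 2 ^ 1 := fun h => absurd (ha1 h) (by norm_num)
        omega
      rw [this, mul_zero]
      exact dvd_zero 8
    · have : a β = 0 ∨ a β = 2 := by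
        have h4 : a β ≠ 2 ^ 2 := fun h => absurd (ha1 h) (by norm_num)
        omega
      rcases this with h | h
      · rw [h, mul_zero]
        exact dvd_zero 8
      · rw [h]
        norm_num
  omega

theorem contra360 (hs : Function.Surjective π) (hc : π.ker ≤ Subgroup.center Q)
    (l : π.ker →* ℂˣ) (hS : Nat.card S = 360) {i t : F} (hi : i * i = -1)
    (ht : t ^ 2 + t - 1 = 0)
    (hall : ∀ β : IrrCharacter Q, Over π l (β : Q → ℂ) → ∃ b, 1 ≤ b ∧ charDegree (β : Q → ℂ) = 3 ^ b) :
    False := by
  classical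
  have := finite_irr (G := Q)
  have := Fintype.ofFinite (IrrCharacter Q)
  obtain ⟨x, w, h1, h2, h3⟩ := real_data D hs (s := 5) Nat.prime_five hi (cmp_five ht)
  obtain ⟨a, ha, hsum⟩ := real_sum l hs hc (Or.inr rfl) h1 h2 h3
  have hsq := sum_sq l hs hc
  rw [hS] at hsum hsq
  have hdvd : (27 : ℤ) ∣ ∑ β ∈ Ov l, ((charDegree (β : Q → ℂ) : ℤ) ^ 2 -
      3 * (charDegree (β : Q → ℂ) * a β)) := by
    refine Finset.dvd_sum fun β hβ => ?_
    have ho := (mem_Ov l).1 hβ
    obtain ⟨b, hb, hb'⟩ := hall β ho
    have hle := deg_sq_le l hs hc β ho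
    obtain ⟨ha1, ha2, ha3⟩ := ha β ho
    rw [hS] at hle
    rw [hb'] at hle ha1 ha2 ha3 ⊢
    have hb2 : b ≤ 2 := by
      by_contra hb2
      have : 3 ^ 3 ≤ 3 ^ b := Nat.pow_le_pow_right (by norm_num) (by omega)
      nlinarith
    have hcases : b = 1 ∨ b = 2 := by omega
    rcases hcases with rfl | rfl
    · have : a β = 1 := by
        have h4 : a β ≠ 3 ^ 1 := fun h => absurd (ha1 h) (by norm_num)
        omega
      rw [this]
      norm_num
    · refine ⟨3 - a β, ?_⟩
      push_cast
      ring
  rw [Finset.sum_sub_distrib, ← Finset.mul_sum] at hdvd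
  have e1 : ∑ β ∈ Ov l, (charDegree (β : Q → ℂ) : ℤ) ^ 2 = 360 := by
    exact_mod_cast hsq
  have e2 : ∑ β ∈ Ov l, ((charDegree (β : Q → ℂ) : ℤ) * a β) = 72 := by
    have : ∑ β ∈ Ov l, charDegree (β : Q → ℂ) * a β = 72 := by omega
    exact_mod_cast this
  rw [e1, e2] at hdvd
  norm_num at hdvd

variable [Fintype F]

/-- If the preimage of the unipotent group is abelian, then `q = 5`. -/
theorem contra_abelian (h4 : 4 ≤ Fintype.card F) (hs : Function.Surjective π)
    (hc : π.ker ≤ Subgroup.center Q) (l : π.ker →* ℂˣ)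
    (hV : ∀ x ∈ V D π, ∀ y ∈ V D π, x * y = y * x) {r a : ℕ} (hr : r.Prime) (ha : a ≠ 0)
    (hdvd : (r ^ a) ^ 2 ∣ Nat.card S) {β : IrrCharacter Q} (hβ : Over π l (β : Q → ℂ))
    (hdeg : charDegree (β : Q → ℂ) = r ^ a) : Fintype.card F = 5 ∧ r = 2 := by
  classical
  obtain ⟨g, hg⟩ := IsCyclic.exists_generator (α := Fˣ)
  have hord : orderOf g = Fintype.card F - 1 := by
    rw [orderOf_eq_card_of_forall_mem_zpowers hg, Nat.card_eq_fintype_card, Fintype.card_units]
  have hdn : ∀ k : ℕ, (((g ^ k : Fˣ) : F)) ^ 2 = 1 → Fintype.card F - 1 ∣ 2 * k := by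
    intro k hk
    rw [← hord]
    apply orderOf_dvd_of_pow_eq_one
    apply Units.ext
    rw [mul_comm, pow_mul, Units.val_pow_eq_pow_val, hk, Units.val_one]
  have hd1 : r ^ a ≠ 1 := by
    intro h
    have := Nat.le_self_pow ha r
    have := hr.two_le
    omega
  rcases Nat.even_or_odd (Fintype.card F) with he | ho
  · exfalso
    refine arith_even h4 he hr ha ?_ (by rw [← D.card_even he]; exact hdvd)
    rw [← hdeg]
    refine deg_ge hs hc hV g (by omega) ?_ β.2 hβ (deg_spec β.2).1 (by rw [hdeg]; exact hd1)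
    intro k hk0 hkn hk
    have h1 := hdn k hk
    have h2 : Nat.Coprime (Fintype.card F - 1) 2 := by
      rw [Nat.coprime_two_right, Nat.odd_iff]
      rw [Nat.even_iff] at he
      omega
    exact absurd (Nat.le_of_dvd hk0 (h2.dvd_of_dvd_mul_left h1)) (by omega)
  · have h5 : 5 ≤ Fintype.card F := by
      rw [Nat.odd_iff] at ho
      omega
    refine arith_odd h5 ho hr ha (D.card_odd ho) ?_ hdvd
    rw [← hdeg]
    have hge : (Fintype.card F - 1) / 2 ≤ charDegree (β : Q → ℂ) := by
      refine deg_ge hs hc hV g (by omega) ?_ β.2 hβ (deg_spec β.2).1 (by rw [hdeg]; exact hd1)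
      intro k hk0 hkn hk
      have h1 := Nat.le_of_dvd (by omega) (hdn k hk)
      omega
    rw [Nat.odd_iff] at ho
    omega

/-- **The linear character of the centre extends** if no degree over it is divisible by two primes. -/
theorem exists_lin (h4 : 4 ≤ Fintype.card F) (hs : Function.Surjective π)
    (hc : π.ker ≤ Subgroup.center Q) (l : π.ker →* ℂˣ) (hl : Function.Injective l)
    (hno : ∀ β : IrrCharacter Q, Over π l (β : Q → ℂ) → ¬ Two (charDegree (β : Q → ℂ))) :
    ∃ lam : Q →* ℂˣ, ∀ z : π.ker, lam z = l z := by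
  by_contra hnl
  obtain ⟨r, hr, a, ha, hall, β0, hβ0, hdeg0⟩ := prime_degrees l hs hc hno hnl
  obtain ⟨p, hchar⟩ := CharP.exists F
  obtain ⟨n, hp, hq⟩ := FiniteField.card F p
  have hpF : (p : F) = 0 := CharP.cast_eq_zero F p
  have hdvd : (r ^ a) ^ 2 ∣ Nat.card S := by
    refine pow_dvd_card l hs hc fun β hβ => ?_
    obtain ⟨b, hb, hb'⟩ := hall β hβ
    rw [hb']
    exact pow_dvd_pow r hb
  have habel : (∀ x ∈ V D π, ∀ y ∈ V D π, x * y = y * x) → Fintype.card F = 5 ∧ r = 2 :=
    fun hV => contra_abelian D h4 hs hc l hV hr ha hdvd hβ0 hdeg0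
  by_cases hsmall : Fintype.card F = 4 ∨ Fintype.card F = 5
  · have hS : Nat.card S = 60 := by
      rcases hsmall with h | h
      · rw [D.card_even (by rw [h]; decide), h]
      · have := D.card_odd (by rw [h]; decide)
        rw [h] at this
        omega
    have hr2 : r = 2 := by
      have h1 : r ^ 2 ∣ 60 := by
        rw [← hS]
        exact (pow_dvd_pow_of_dvd (dvd_pow_self r ha) 2).trans hdvd
      have h2 : r ≤ 7 := by
        have := Nat.le_of_dvd (by norm_num) h1
        nlinarith
      have := hr.two_le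
      interval_cases r
      · rfl
      · norm_num at h1
      · norm_num at hr
      · norm_num at h1
      · norm_num at hr
      · norm_num at h1
    subst hr2
    have hi : IsSquare (-1 : F) := by
      rw [FiniteField.isSquare_neg_one_iff]
      rcases hsmall with h | h <;> rw [h] <;> decide
    obtain ⟨i, hi⟩ := hi
    refine contra60 D hs hc l hS hi.symm fun β hβ => ?_
    obtain ⟨b, hb, hb'⟩ := hall β hβ
    exact ⟨b, by omega, hb'⟩
  · push Not at hsmall
    by_cases hrp : r = p
    · rcases Nat.even_or_odd (Fintype.card F) with he | ho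
      · obtain ⟨a', e, h1, h2⟩ := exists_squares (F := F) (Or.inl ⟨he, by omega⟩)
        exact hsmall.2 (habel (comm_of_squares D hs hc a' e h1 h2)).1
      · -- `p ^ 2` divides `q`
        have hpodd : p ≠ 2 := by
          rintro rfl
          rw [hq, Nat.odd_pow_iff n.ne_zero] at ho
          exact absurd ho (by decide)
        have hn2 : 2 ≤ (n : ℕ) := by
          by_contra hn2
          have hn1 : (n : ℕ) = 1 := by
            have := n.pos
            omega
          rw [hn1, pow_one] at hq
          have h1 : p ^ 2 ∣ 2 * Nat.card S := by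
            rw [← hrp]
            exact ((pow_dvd_pow_of_dvd (dvd_pow_self r ha) 2).trans hdvd).trans
              (Dvd.intro_left 2 rfl)
          rw [D.card_odd ho, hq] at h1
          have h2 : p * p ∣ p * ((p + 1) * (p - 1)) := by
            rw [← pow_two]
            have : p * ((p + 1) * (p - 1)) = (p + 1) * (p * (p - 1)) := by ring
            rw [this]
            exact h1
          have h3 := Nat.dvd_of_mul_dvd_mul_left hp.pos h2
          rcases (Nat.Prime.dvd_mul hp).1 h3 with h5 | h5
          · have := (Nat.dvd_add_right (dvd_refl p)).1 h5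
            exact hp.one_lt.ne' (Nat.dvd_one.1 this)
          · have := Nat.le_of_dvd (by have := hp.two_le; omega) h5
            have := hp.two_le
            omega
        by_cases h9 : Fintype.card F = 9
        · have hp3 : p = 3 := by
            have h1 : p ∣ 9 := by
              rw [← h9, hq]
              exact dvd_pow_self p n.ne_zero
            have h2 : p ∣ 3 := by
              have : (9 : ℕ) = 3 ^ 2 := by norm_num
              rw [this] at h1
              exact hp.dvd_of_dvd_pow h1
            exact (Nat.prime_dvd_prime_iff_eq hp Nat.prime_three).1 h2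
          subst hp3
          subst hrp
          have hS : Nat.card S = 360 := by
            have := D.card_odd ho
            rw [h9] at this
            omega
          have hi : IsSquare (-1 : F) := by
            rw [FiniteField.isSquare_neg_one_iff, h9]
            decide
          obtain ⟨i, hi⟩ := hi
          have h3 : (3 : F) = 0 := by exact_mod_cast hpF
          refine contra360 D hs hc l hS (t := 1 - i) hi.symm ?_ fun β hβ => ?_
          · linear_combination (-1 : F) * hi + (-i) * h3
          · obtain ⟨b, hb, hb'⟩ := hall β hβ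
            exact ⟨b, by omega, hb'⟩
        · have h13 : 13 < Fintype.card F := by
            have hp3 : 3 ≤ p := by
              have := hp.two_le
              omega
            rw [hq] at h9 ⊢
            rcases Nat.lt_or_ge (n : ℕ) 3 with h | h
            · have hn : (n : ℕ) = 2 := by omega
              rw [hn] at h9 ⊢
              have : p ≠ 3 := by rintro rfl; exact h9 (by norm_num)
              nlinarith [show 4 ≤ p by omega]
            · calc 13 < 3 ^ 3 := by norm_num
                _ ≤ p ^ 3 := Nat.pow_le_pow_left hp3 3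
                _ ≤ p ^ (n : ℕ) := Nat.pow_le_pow_right hp.pos h
          obtain ⟨a', e, h1, h2⟩ := exists_squares (F := F) (Or.inr ⟨ho, h13⟩)
          exact hsmall.2 (habel (comm_of_squares D hs hc a' e h1 h2)).1
    · have hnd : ¬ p ∣ r ^ a := by
        intro h
        exact hrp ((Nat.prime_dvd_prime_iff_eq hp hr).1 (hp.dvd_of_dvd_pow h)).symm
      refine hsmall.2 (habel (comm_of_coprime hs hc hl hp hpF β0.2 hβ0 (deg_spec β0.2).1 ?_)).1
      rw [hdeg0]
      exact hnd

end Cfsg.Agent.H525.L2
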