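import Cfsg.Agent.H525.L2.Cover
import Cfsg.Agent.H525.L2.NoLin
import Cfsg.Agent.H525.L2.Ind
import Cfsg.Agent.S4774
import Cfsg.Agent.S4812
import Cfsg.Agent.H967.EppoArith

/-!
# Characters of extensions with quotient `PSL₂(F)`

`l2_over`: `X ⧸ M ≅ PSL₂(F)`, `θ ∈ Irr(M)`: either some `χ ∈ Irr(X | θ)` has `χ(1) / θ(1)` divisible by
two different primes, or `|F| ∈ {4, 5, 8}` and `θ` extends to `X`.
-/

set_option autoImplicit false
set_option linter.unusedSectionVars false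

namespace Cfsg.Agent.H525.L2

open Cfsg
open scoped ComplexConjugate
open Cfsg.Agent.Characters.Core
open Cfsg.Agent.H595.Count Cfsg.Agent.H595.Central Cfsg.Agent.H595.Triple

universe u

/-- A degree of `PSL₂(F)` divisible by two primes. -/
theorem exists_two_degree {F : Type} [Field F] [Fintype F] (h4 : 4 ≤ Fintype.card F)
    (hne : ¬ (Fintype.card F = 4 ∨ Fintype.card F = 5 ∨ Fintype.card F = 8))
    {S : Type u} [Group S] [Finite S] (e : S ≃* Matrix.ProjectiveSpecialLinearGroup (Fin 2) F) :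
    ∃ η : IrrCharacter S, Two (charDegree (η : S → ℂ)) := by
  push Not at hne
  obtain ⟨p, hchar⟩ := CharP.exists F
  obtain ⟨n, hp, hq⟩ := FiniteField.card F p
  have key : ∀ r s : ℕ, (degreeGraph S).Adj r s → ∃ η : IrrCharacter S, Two (charDegree (η : S → ℂ)) := by
    rintro r s ⟨h1, h2, h3, d, ⟨η, rfl⟩, h5⟩
    exact ⟨η, r, s, h2, h3, h1, h5⟩
  have hfp : Fact p.Prime := ⟨hp⟩
  by_cases hp2 : p = 2
  · subst hp2
    have hadj := (Cfsg.Agent.S4812.result F _ rfl h4 (S := S) (Or.inl ⟨e⟩)).2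
    have hn4 : 4 ≤ (n : ℕ) := by
      by_contra h
      have : (n : ℕ) = 1 ∨ (n : ℕ) = 2 ∨ (n : ℕ) = 3 := by
        have := n.pos
        omega
      rcases this with h | h | h <;> rw [h] at hq <;> omega
    set q := Fintype.card F with hqdef
    have h3 : 3 ∣ q - 1 ∨ 3 ∣ q + 1 := by
      have h5 : ¬ 3 ∣ q := by
        rw [hq]
        intro h
        have := (Nat.prime_dvd_prime_iff_eq Nat.prime_three Nat.prime_two).1
          (Nat.prime_three.dvd_of_dvd_pow h)
        omega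
      omega
    rcases h3 with h3 | h3
    · have htwo : Two (q - 1) := by
        by_contra hnt
        obtain ⟨a, -, ha⟩ := eq_pow_of_not_two (by omega) Nat.prime_three h3 hnt
        have := Cfsg.Agent.H967.EppoArith.two_pow_eq (n := n) (a := a) (by rw [← hq, ← ha]; omega)
        omega
      obtain ⟨r, s, hr, hs, hrs, hd⟩ := htwo
      exact key r s ((hadj r s).2 ⟨hrs, hr, hs, Or.inr ⟨(Dvd.intro _ rfl).trans hd,
        (Dvd.intro_left _ rfl).trans hd⟩⟩)
    · have htwo : Two (q + 1) := by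
        by_contra hnt
        obtain ⟨a, -, ha⟩ := eq_pow_of_not_two (by omega) Nat.prime_three h3 hnt
        have := Cfsg.Agent.H967.EppoArith.two_pow_add_one_eq (n := n) (b := a) (by rw [← hq, ← ha])
        omega
      obtain ⟨r, s, hr, hs, hrs, hd⟩ := htwo
      exact key r s ((hadj r s).2 ⟨hrs, hr, hs, Or.inl ⟨(Dvd.intro _ rfl).trans hd,
        (Dvd.intro_left _ rfl).trans hd⟩⟩)
  · have hodd : Odd (Fintype.card F) := by
      rw [hq]
      exact (hp.odd_of_ne_two hp2).pow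
    have h7 : 7 ≤ Fintype.card F := by
      rw [Nat.odd_iff] at hodd
      omega
    have hadj := (Cfsg.Agent.S4774.result F p hp2 _ rfl (by omega) (S := S) (Or.inl ⟨e⟩)).2
    set q := Fintype.card F with hqdef
    have hsq : q ^ 2 - 1 = (q + 1) * (q - 1) := by
      have := Nat.sq_sub_sq q 1
      simpa using this
    obtain ⟨s, hs, hs2, hsd⟩ : ∃ s : ℕ, s.Prime ∧ s ≠ 2 ∧ s ∣ q ^ 2 - 1 := by
      have hmod : q % 4 = 1 ∨ q % 4 = 3 := by
        rw [Nat.odd_iff] at hodd
        omega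
      have hex : ∃ m : ℕ, m % 2 = 1 ∧ m ≠ 1 ∧ m ∣ q ^ 2 - 1 := by
        rcases hmod with h | h
        · refine ⟨(q + 1) / 2, by omega, by omega, ?_⟩
          rw [hsq]
          exact (Dvd.intro 2 (by omega : (q + 1) / 2 * 2 = q + 1)).mul_right _
        · refine ⟨(q - 1) / 2, by omega, by omega, ?_⟩
          rw [hsq]
          exact (Dvd.intro 2 (by omega : (q - 1) / 2 * 2 = q - 1)).mul_left _
      obtain ⟨m, hm2, hm1, hmd⟩ := hex
      refine ⟨m.minFac, Nat.minFac_prime hm1, ?_, (Nat.minFac_dvd m).trans hmd⟩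
      intro h
      have := h ▸ Nat.minFac_dvd m
      omega
    have h2d : 2 ∣ q ^ 2 - 1 := by
      rw [hsq]
      rw [Nat.odd_iff] at hodd
      exact Dvd.dvd.mul_left (by omega) _
    exact key 2 s ((hadj 2 s).2 ⟨hs2.symm, Nat.prime_two, hs, h2d, hsd, Or.inl rfl⟩)

section

variable {X : Type u} [Group X] [Finite X] (M : Subgroup X) [hM : M.Normal] {F : Type} [Field F]
  [Fintype F] (hF : 4 ≤ Fintype.card F)
  (e : X ⧸ M ≃* Matrix.ProjectiveSpecialLinearGroup (Fin 2) F) [Fintype M] (θ : IrrCharacter M)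

include hF e in
/-- The invariant case. -/
theorem inv_case (hinv : CInv M (θ : M → ℂ))
    (hno : ∀ χ : IrrCharacter X, classInner (fun m : M => (χ : X → ℂ) m) (θ : M → ℂ) ≠ 0 →
      ∀ d : ℕ, charDegree (χ : X → ℂ) = d * charDegree (θ : M → ℂ) → ¬ Two d) :
    (Fintype.card F = 4 ∨ Fintype.card F = 5 ∨ Fintype.card F = 8) ∧
      ∃ χ : IrrCharacter X, ∀ m : M, (χ : X → ℂ) m = (θ : M → ℂ) m := by
  classical
  have hsimp : IsSimpleGroup (Matrix.ProjectiveSpecialLinearGroup (Fin 2) F) :=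
    Matrix.ProjectiveSpecialLinearGroup.rank_two_simple
      (by rw [Nat.card_eq_fintype_card]; omega)
  have hsimp' : IsSimpleGroup (X ⧸ M) := e.isSimpleGroup
  obtain ⟨Q, hg, hfin, π, l, hs, hc, hl, H⟩ := exists_red M θ hinv
  have hover : ∀ (χ : IrrCharacter X) (b : ℕ), b ≠ 0 →
      (∀ n : M, (χ : X → ℂ) n = b * (θ : M → ℂ) n) → ¬ Two b := by
    intro χ b hb h
    refine hno χ ?_ b ?_
    · have h1 : (fun m : M => (χ : X → ℂ) m) = (b : ℂ) • (θ : M → ℂ) := by
        funext m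
        rw [h m, Pi.smul_apply, smul_eq_mul]
      rw [h1, classInner_smul_left, classInner_irr_self θ.2, mul_one]
      exact Nat.cast_ne_zero.2 hb
    · have h1 := h 1
      rw [Subgroup.coe_one, (deg_spec χ.2).1, (deg_spec θ.2).1] at h1
      exact_mod_cast h1
  have hno' : ∀ β : IrrCharacter Q, Over π l (β : Q → ℂ) → ¬ Two (charDegree (β : Q → ℂ)) := by
    intro β hβ
    obtain ⟨χ, hχ⟩ := H β hβ
    refine hover χ _ (deg_spec β.2).2.ne' fun n => ?_
    rw [hχ n, (deg_spec β.2).1]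
  obtain ⟨lam, hlam⟩ := exists_lin (frame e) hF hs hc l hl hno'
  obtain ⟨χ0, hχ0⟩ := H (homIrr lam) (over_of_linear hlam)
  have hχ0' : ∀ n : M, (χ0 : X → ℂ) n = (θ : M → ℂ) n := by
    intro n
    rw [hχ0 n, homIrr_apply, map_one, Units.val_one, one_mul]
  by_cases hsmall : Fintype.card F = 4 ∨ Fintype.card F = 5 ∨ Fintype.card F = 8
  · exact ⟨hsmall, χ0, hχ0'⟩
  · exfalso
    obtain ⟨η, hη⟩ := exists_two_degree hF hsmall e
    have hirr : IsIrrCharacter X (fun x => (η : X ⧸ M → ℂ) (QuotientGroup.mk' M x) * (χ0 : X → ℂ) x) := by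
      refine isIrr_mul_inflate M χ0.2 ?_ (isIrr_comp (QuotientGroup.mk' M)
        (QuotientGroup.mk'_surjective M) η.2) ?_
      · have : (fun n : M => (χ0 : X → ℂ) n) = (θ : M → ℂ) := funext hχ0'
        rw [this]
        exact θ.2
      · intro x hx
        have h1 : QuotientGroup.mk' M x = 1 := (QuotientGroup.eq_one_iff _).2 hx
        show (η : X ⧸ M → ℂ) (QuotientGroup.mk' M x) = (η : X ⧸ M → ℂ) (QuotientGroup.mk' M 1)
        rw [h1, map_one]
    refine hover ⟨_, hirr⟩ _ (deg_spec η.2).2.ne' (fun n => ?_) hη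
    show (η : X ⧸ M → ℂ) (QuotientGroup.mk' M n) * (χ0 : X → ℂ) n = _
    have h1 : QuotientGroup.mk' M (n : X) = 1 := (QuotientGroup.eq_one_iff _).2 n.2
    rw [h1, hχ0', (deg_spec η.2).1]

include hF e in
/-- The case of a proper inertia group. -/
theorem proper_case (hT1 : Cfsg.Agent.H672.inertia M (θ : M → ℂ) ≠ ⊤)
    (hno : ∀ χ : IrrCharacter X, classInner (fun m : M => (χ : X → ℂ) m) (θ : M → ℂ) ≠ 0 →
      ∀ d : ℕ, charDegree (χ : X → ℂ) = d * charDegree (θ : M → ℂ) → ¬ Two d) : False := by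
  classical
  have hsimp : IsSimpleGroup (Matrix.ProjectiveSpecialLinearGroup (Fin 2) F) :=
    Matrix.ProjectiveSpecialLinearGroup.rank_two_simple
      (by rw [Nat.card_eq_fintype_card]; omega)
  have hsimp' : IsSimpleGroup (X ⧸ M) := e.isSimpleGroup
  have := Fintype.ofFinite X
  set T := Cfsg.Agent.H672.inertia M (θ : M → ℂ) with hTdef
  have := Fintype.ofFinite T
  have hT : ∀ g : X, g ∈ T ↔ ∀ n : M, (θ : M → ℂ) ⟨g * n * g⁻¹, hM.conj_mem (n : X) n.2 g⟩ =
      (θ : M → ℂ) n := fun g => Cfsg.Agent.H672.mem_inertia_iff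
  have hMT : M ≤ T := Cfsg.Agent.H672.le_inertia (isIrr_isClassFunction θ.2)
  let N : Subgroup T := M.subgroupOf T
  let eN : N ≃* M := Subgroup.subgroupOfEquivOfLe hMT
  let θ' : IrrCharacter N := ⟨(θ : M → ℂ) ∘ eN, isIrr_comp eN.toMonoidHom eN.surjective θ.2⟩
  have hinv : CInv N (θ' : N → ℂ) := by
    intro x n
    exact (hT x).1 x.2 (eN n)
  obtain ⟨Q, hg, hfin, π, l, hs, hc, hl, H⟩ := exists_red N θ' hinv
  -- the degrees
  have hno' : ∀ β : IrrCharacter Q, Over π l (β : Q → ℂ) →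
      ¬ Two (T.index * charDegree (β : Q → ℂ)) := by
    intro β hβ
    obtain ⟨ψ, hψ⟩ := H β hβ
    have hψ' : ∀ m : M, (ψ : T → ℂ) ⟨m, hMT m.2⟩ =
        (charDegree (β : Q → ℂ) : ℂ) * (θ : M → ℂ) m := by
      intro m
      have := hψ ⟨⟨m, hMT m.2⟩, m.2⟩
      rw [(deg_spec β.2).1] at this
      exact this
    obtain ⟨h1, h2, h3⟩ := over_ind M θ.2 T hT hMT ψ.2 (deg_spec β.2).2.ne' hψ'
    refine hno ⟨_, h1⟩ h3 _ ?_
    have h4 := hψ' 1
    have h5 : (⟨((1 : M) : X), hMT (1 : M).2⟩ : T) = 1 := rfl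
    rw [h5, (deg_spec θ.2).1] at h4
    rw [h4, (deg_spec h1).1] at h2
    have h6 : charDegree (indFun T (ψ : T → ℂ)) =
        T.index * (charDegree (β : Q → ℂ) * charDegree (θ : M → ℂ)) := by exact_mod_cast h2
    rw [mul_assoc]
    exact h6
  have hTi : T.index ≠ 1 := fun h => hT1 (Subgroup.index_eq_one.1 h)
  have hTi0 : T.index ≠ 0 := Subgroup.index_ne_zero_of_finite
  obtain ⟨β1, hβ1⟩ := exists_over l hs hc
  set r := T.index.minFac with hr
  have hrp : r.Prime := Nat.minFac_prime hTi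
  have hrT : r ∣ T.index := Nat.minFac_dvd _
  obtain ⟨a, ha, haT⟩ := eq_pow_of_not_two hTi0 hrp hrT
    (fun h => hno' β1 hβ1 (h.mono (Dvd.intro _ rfl)))
  have hpow : ∀ β : IrrCharacter Q, Over π l (β : Q → ℂ) → ∃ b, charDegree (β : Q → ℂ) = r ^ b := by
    intro β hβ
    obtain ⟨b, -, hb⟩ := eq_pow_of_not_two (mul_ne_zero hTi0 (deg_spec β.2).2.ne') hrp
      (hrT.mul_right _) (hno' β hβ)
    obtain ⟨c, -, hc⟩ := (Nat.dvd_prime_pow hrp).1 (hb ▸ Dvd.intro_left T.index rfl :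
      charDegree (β : Q → ℂ) ∣ r ^ b)
    exact ⟨c, hc⟩
  -- the image in the quotient
  let ι : T ⧸ N →* X ⧸ M := QuotientGroup.map N M T.subtype (fun x hx => hx)
  have hι : Function.Injective ι := by
    rw [injective_iff_map_eq_one]
    intro y hy
    obtain ⟨t, rfl⟩ := QuotientGroup.mk_surjective y
    have h1 : ((t : X) : X ⧸ M) = 1 := hy
    have h2 : (t : X) ∈ M := (QuotientGroup.eq_one_iff (t : X)).1 h1
    exact (QuotientGroup.eq_one_iff t).2 h2
  have hHi : ι.range.index = r ^ a := by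
    rw [← haT]
    have h1 : ι.range.comap (QuotientGroup.mk' M) = T := by
      ext x
      constructor
      · rintro ⟨y, hy⟩
        obtain ⟨t, rfl⟩ := QuotientGroup.mk_surjective y
        have h2 : ((t : X) : X ⧸ M) = (x : X ⧸ M) := hy
        have h3 := QuotientGroup.eq.1 h2
        have h4 := T.mul_mem t.2 (hMT h3)
        rwa [mul_inv_cancel_left] at h4
      · intro hx
        exact ⟨((⟨x, hx⟩ : T) : T ⧸ N), rfl⟩
    rw [← Subgroup.index_comap_of_surjective ι.range (QuotientGroup.mk'_surjective M), h1]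
  have hHc : Nat.card ι.range = Nat.card (T ⧸ N) :=
    (Nat.card_congr (MonoidHom.ofInjective hι).toEquiv).symm
  have hnd := (frame e).not_dvd hF ι.range hrp ha hHi
  rw [hHc] at hnd
  -- a linear character over `l`
  obtain ⟨β0, hβ0, hdeg0⟩ : ∃ β : IrrCharacter Q, Over π l (β : Q → ℂ) ∧
      charDegree (β : Q → ℂ) = 1 := by
    by_contra hcon
    push Not at hcon
    apply hnd
    have h1 : r ^ 2 ∣ Nat.card (T ⧸ N) := by
      refine pow_dvd_card l hs hc fun β hβ => ?_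
      obtain ⟨b, hb⟩ := hpow β hβ
      have hb0 : b ≠ 0 := by
        rintro rfl
        exact hcon β hβ (by rw [hb, pow_zero])
      rw [hb]
      exact dvd_pow_self r hb0
    exact (dvd_pow_self r two_ne_zero).trans h1
  obtain ⟨lam, hlam⟩ := exists_linear hc β0.2 hβ0 (deg_spec β0.2).1 β0.2 hβ0 (deg_spec β0.2).1
    (by rw [hdeg0]; exact Nat.coprime_one_left 1)
  -- all irreducible characters of `T ⧸ N` are linear
  have hlin : ∀ η : IrrCharacter (T ⧸ N), (η : T ⧸ N → ℂ) 1 = 1 := by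
    intro η
    have hirr := Cfsg.Agent.CharactersDeep.ExtUnique.isIrr_mul_hom (isIrr_comp π hs η.2) lam
    have ho : Over π l (fun g => ((η : T ⧸ N → ℂ) ∘ π) g * lam g) := by
      intro g z
      have h1 : π (g * z) = π g := by rw [map_mul, (MonoidHom.mem_ker.1 z.2), mul_one]
      show (η : T ⧸ N → ℂ) (π (g * z)) * lam (g * z) = (η : T ⧸ N → ℂ) (π g) * lam g * l z
      rw [h1, map_mul, hlam, Units.val_mul, mul_assoc]
    obtain ⟨b, hb⟩ := hpow ⟨_, hirr⟩ ho
    have hdeg : charDegree (fun g => ((η : T ⧸ N → ℂ) ∘ π) g * lam g) =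
        charDegree (η : T ⧸ N → ℂ) := by
      have h1 : (fun g => ((η : T ⧸ N → ℂ) ∘ π) g * (lam g : ℂ)) 1 = (η : T ⧸ N → ℂ) 1 := by
        show (η : T ⧸ N → ℂ) (π 1) * (lam 1 : ℂ) = _
        rw [map_one, map_one, Units.val_one, mul_one]
      unfold charDegree
      rw [h1]
    have hb' : charDegree (η : T ⧸ N → ℂ) = r ^ b := by rw [← hdeg]; exact hb
    have hdvd : charDegree (η : T ⧸ N → ℂ) ∣ Nat.card (T ⧸ N) := by
      obtain ⟨⟨n, ρ, hρ, h1⟩⟩ : IsIrrCharacter (T ⧸ N) (η : T ⧸ N → ℂ) ∧ True := ⟨η.2, trivial⟩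
      have h2 : charDegree (η : T ⧸ N → ℂ) = Module.finrank ℂ (Fin n → ℂ) := by
        rw [← h1, charDegree, Representation.char_one]
        simp
      rw [h2]
      exact Cfsg.Agent.S0135.result ρ
    have hb0 : b = 0 := by
      by_contra hb0
      rw [hb'] at hdvd
      exact hnd ((dvd_pow_self r hb0).trans hdvd)
    rw [(deg_spec η.2).1, hb', hb0, pow_zero, Nat.cast_one]
  have hcomm := Cfsg.Agent.S0187.result.2 hlin
  refine not_comm_of_index ?_ ι.range hrp hHi ?_
  · -- the order of `X ⧸ M` is not prime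
    intro hP
    rcases Nat.even_or_odd (Fintype.card F) with he | ho
    · have h1 := (frame e).card_even he
      rw [h1] at hP
      exact Nat.not_prime_mul (by omega) (by
        have : 1 < Fintype.card F * (Fintype.card F - 1) := by
          have : 4 * 3 ≤ Fintype.card F * (Fintype.card F - 1) := Nat.mul_le_mul hF (by omega)
          omega
        omega) hP
    · have h1 := (frame e).card_odd ho
      have h5 : 5 ≤ Fintype.card F := by
        rw [Nat.odd_iff] at ho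
        omega
      set q := Fintype.card F
      obtain ⟨k, hk⟩ : ∃ k, q = k + 1 := ⟨q - 1, by omega⟩
      have h2 : q ∣ 2 * Nat.card (X ⧸ M) := by
        rw [h1]
        exact (Dvd.intro _ rfl : q ∣ q * (q - 1)).mul_left _
      have h3 : q ∣ Nat.card (X ⧸ M) :=
        (Nat.Coprime.symm (Nat.coprime_two_left.2 ho)).dvd_of_dvd_mul_left h2
      rcases (Nat.dvd_prime hP).1 h3 with h6 | h6
      · omega
      · rw [← h6, hk, Nat.add_sub_cancel] at h1
        have h7 : (k + 1) * 2 = (k + 1) * ((k + 2) * k) := by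
          calc (k + 1) * 2 = 2 * (k + 1) := by ring
            _ = (k + 1 + 1) * ((k + 1) * k) := h1
            _ = _ := by ring
        have h8 := Nat.eq_of_mul_eq_mul_left (Nat.succ_pos k) h7
        nlinarith
  · rintro _ ⟨y, rfl⟩ _ ⟨z, rfl⟩
    rw [← map_mul, ← map_mul, hcomm]

end

/-- **Characters over `θ` when the quotient is `PSL₂(F)`.** -/
theorem l2_over {X : Type u} [Group X] [Finite X] (M : Subgroup X) [M.Normal] {F : Type} [Field F]
    [Fintype F] (hF : 4 ≤ Fintype.card F)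
    (e : X ⧸ M ≃* Matrix.ProjectiveSpecialLinearGroup (Fin 2) F) [Fintype M]
    (θ : Cfsg.IrrCharacter M) :
    (∃ χ : Cfsg.IrrCharacter X,
      Cfsg.classInner (fun m : M => (χ : X → ℂ) m) (θ : M → ℂ) ≠ 0 ∧
      ∃ p q d : ℕ, p.Prime ∧ q.Prime ∧ p ≠ q ∧
        Cfsg.charDegree (χ : X → ℂ) = d * Cfsg.charDegree (θ : M → ℂ) ∧ p * q ∣ d) ∨
    ((Fintype.card F = 4 ∨ Fintype.card F = 5 ∨ Fintype.card F = 8) ∧
      ∃ χ : Cfsg.IrrCharacter X, ∀ m : M, (χ : X → ℂ) m = (θ : M → ℂ) m) := by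
  by_cases hA : ∃ χ : Cfsg.IrrCharacter X,
      Cfsg.classInner (fun m : M => (χ : X → ℂ) m) (θ : M → ℂ) ≠ 0 ∧
      ∃ p q d : ℕ, p.Prime ∧ q.Prime ∧ p ≠ q ∧
        Cfsg.charDegree (χ : X → ℂ) = d * Cfsg.charDegree (θ : M → ℂ) ∧ p * q ∣ d
  · exact Or.inl hA
  · right
    have hno : ∀ χ : IrrCharacter X,
        classInner (fun m : M => (χ : X → ℂ) m) (θ : M → ℂ) ≠ 0 →
        ∀ d : ℕ, charDegree (χ : X → ℂ) = d * charDegree (θ : M → ℂ) → ¬ Two d := by
      rintro χ h1 d h2 ⟨p, q, hp, hq, hpq, h3⟩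
      exact hA ⟨χ, h1, p, q, d, hp, hq, hpq, h2, h3⟩
    by_cases hT : Cfsg.Agent.H672.inertia M (θ : M → ℂ) = ⊤
    · refine inv_case M hF e θ ?_ hno
      intro x n
      have : x ∈ Cfsg.Agent.H672.inertia M (θ : M → ℂ) := by rw [hT]; trivial
      exact Cfsg.Agent.H672.mem_inertia_iff.1 this n
    · exact absurd hno (fun hno => proper_case M hF e θ hT hno)

end Cfsg.Agent.H525.L2
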