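import Cfsg.Agent.H595.Central
import Cfsg.Agent.Characters.Values
import Cfsg.Agent.CharactersDeep.Extraspecial

/-!
# Characters over a linear character of a central kernel

`π : Q → S` surjective with central kernel, `l` a linear character of the kernel.
-/

set_option autoImplicit false
set_option linter.unusedSectionVars false

namespace Cfsg.Agent.H525.L2

open Cfsg
open scoped ComplexConjugate
open Cfsg.Agent.Characters.Core
open Cfsg.Agent.H595.Count Cfsg.Agent.H595.Central

universe u v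

variable {Q : Type u} [Group Q] {S : Type v} [Group S]

/-- `β` lies over the linear character `l` of the kernel of `π`. -/
def Over (π : Q →* S) (l : π.ker →* ℂˣ) (β : Q → ℂ) : Prop :=
  ∀ (a : Q) (z : π.ker), β (a * z) = β a * l z

section Rep

variable {π : Q →* S} {l : π.ker →* ℂˣ}

theorem exists_rep (hc : π.ker ≤ Subgroup.center Q) {β : Q → ℂ}
    (hβ : IsIrrCharacter Q β) (ho : Over π l β) :
    ∃ (n : ℕ) (ρ : Representation ℂ Q (Fin n → ℂ)), ρ.IsIrreducible ∧ ρ.character = β ∧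
      ∀ z : π.ker, ρ z = (l z : ℂ) • (1 : Module.End ℂ (Fin n → ℂ)) := by
  have hβ' := hβ
  obtain ⟨n, ρ, hρ, rfl⟩ := hβ
  refine ⟨n, ρ, hρ, rfl, ?_⟩
  obtain ⟨c, hc'⟩ := Cfsg.Agent.CharactersDeep.Extraspecial.exists_central_hom_rep ρ hρ
  intro z
  have h1 := hc' (Subgroup.inclusion hc z)
  have h0 : (n : ℂ) ≠ 0 := by
    have := isIrr_apply_one_ne_zero hβ'
    rwa [Representation.char_one, Module.finrank_fin_fun] at this
  have h2 := ho 1 z
  rw [one_mul, Representation.char_one, Module.finrank_fin_fun] at h2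
  have h3 : ρ.character z = (c (Subgroup.inclusion hc z) : ℂ) * n := by
    show LinearMap.trace ℂ _ (ρ z) = _
    have h4 : ρ (z : Q) = ((c (Subgroup.inclusion hc z) : ℂˣ) : ℂ) •
      (LinearMap.id : (Fin n → ℂ) →ₗ[ℂ] (Fin n → ℂ)) := h1
    rw [h4, map_smul, LinearMap.trace_id, Module.finrank_fin_fun, smul_eq_mul]
  rw [h3, mul_comm] at h2
  have h4 : (c (Subgroup.inclusion hc z) : ℂ) = l z := mul_left_cancel₀ h0 h2
  rw [← h4]
  exact h1

/-- The determinant. -/
theorem exists_det (hc : π.ker ≤ Subgroup.center Q) {β : Q → ℂ}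
    (hβ : IsIrrCharacter Q β) (ho : Over π l β) {n : ℕ} (hn : β 1 = n) :
    ∃ δ : Q →* ℂˣ, ∀ z : π.ker, δ z = l z ^ n := by
  obtain ⟨m, ρ, hρ, rfl, hz⟩ := exists_rep hc hβ ho
  rw [Representation.char_one, Module.finrank_fin_fun] at hn
  have hmn : m = n := by exact_mod_cast hn
  subst hmn
  let d : Q →* ℂ := LinearMap.det.comp ρ
  refine ⟨d.toHomUnits, fun z => ?_⟩
  ext
  show LinearMap.det (ρ z) = ((l z ^ m : ℂˣ) : ℂ)
  rw [hz, LinearMap.det_smul, Module.finrank_fin_fun, map_one, mul_one, Units.val_pow_eq_pow_val]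

/-- Two characters of coprime degrees over `l`: `l` extends to `Q`. -/
theorem exists_linear (hc : π.ker ≤ Subgroup.center Q) {β γ : Q → ℂ}
    (hβ : IsIrrCharacter Q β) (hoβ : Over π l β) {m : ℕ} (hm : β 1 = m)
    (hγ : IsIrrCharacter Q γ) (hoγ : Over π l γ) {n : ℕ} (hn : γ 1 = n) (hmn : m.Coprime n) :
    ∃ lam : Q →* ℂˣ, ∀ z : π.ker, lam z = l z := by
  obtain ⟨d1, h1⟩ := exists_det hc hβ hoβ hm
  obtain ⟨d2, h2⟩ := exists_det hc hγ hoγ hn
  refine ⟨d1 ^ Nat.gcdA m n * d2 ^ Nat.gcdB m n, fun z => ?_⟩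
  have h3 : (m : ℤ) * Nat.gcdA m n + n * Nat.gcdB m n = 1 := by
    have := Nat.gcd_eq_gcd_ab m n
    rw [hmn] at this
    exact_mod_cast this.symm
  rw [MonoidHom.mul_apply]
  have e1 : (d1 ^ Nat.gcdA m n) (z : Q) = (d1 z) ^ Nat.gcdA m n := rfl
  have e2 : (d2 ^ Nat.gcdB m n) (z : Q) = (d2 z) ^ Nat.gcdB m n := rfl
  rw [e1, e2, h1, h2, ← zpow_natCast, ← zpow_natCast, ← zpow_mul, ← zpow_mul, ← zpow_add, h3,
    zpow_one]

/-- A linear character gives an irreducible character over `l`. -/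
theorem over_of_linear {lam : Q →* ℂˣ} (h : ∀ z : π.ker, lam z = l z) :
    Over π l (homIrr lam : Q → ℂ) := by
  intro a z
  rw [homIrr_apply, homIrr_apply, map_mul, h, Units.val_mul]

/-- Commutators in the kernel. -/
theorem pow_commutator (hc : π.ker ≤ Subgroup.center Q) (hl : Function.Injective l) {β : Q → ℂ}
    (hβ : IsIrrCharacter Q β) (ho : Over π l β) {n : ℕ} (hn : β 1 = n) (x y : Q)
    (hxy : x * y * x⁻¹ * y⁻¹ ∈ π.ker) : (x * y * x⁻¹ * y⁻¹) ^ n = 1 := by
  obtain ⟨δ, hδ⟩ := exists_det hc hβ ho hn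
  have h1 := hδ ⟨_, hxy⟩
  have h2 : δ (x * y * x⁻¹ * y⁻¹) = 1 := by
    rw [map_mul, map_mul, map_mul, map_inv, map_inv, mul_comm (δ x), mul_inv_cancel_right,
      mul_inv_cancel]
  have h3 : δ ((⟨_, hxy⟩ : π.ker) : Q) = 1 := h2
  rw [h3, ← map_pow] at h1
  have h4 : (⟨_, hxy⟩ : π.ker) ^ n = 1 := hl (by rw [← h1, map_one])
  exact congrArg Subtype.val h4

/-- If a noncentral element acts as a scalar and `S` is simple, the degree is one. -/
theorem eq_one_of_scalar [IsSimpleGroup S] (hs : Function.Surjective π)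
    {n : ℕ} {ρ : Representation ℂ Q (Fin n → ℂ)} (hρ : ρ.IsIrreducible)
    (hz : ∀ z : π.ker, ρ z = (l z : ℂ) • (1 : Module.End ℂ (Fin n → ℂ)))
    {g : Q} (hg : π g ≠ 1) {c : ℂ} (hc : ρ g = c • (1 : Module.End ℂ (Fin n → ℂ))) : n = 1 := by
  let K : Subgroup Q :=
    { carrier := {x | ∃ c : ℂ, ρ x = c • (1 : Module.End ℂ (Fin n → ℂ))}
      mul_mem' := by
        rintro a b ⟨c, hc⟩ ⟨d, hd⟩
        refine ⟨c * d, ?_⟩
        rw [map_mul, hc, hd, smul_mul_smul_comm, mul_one]
      one_mem' := ⟨1, by rw [map_one, one_smul]⟩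
      inv_mem' := by
        rintro a ⟨c, hc⟩
        have h1 : ρ a * ρ a⁻¹ = 1 := by rw [← map_mul, mul_inv_cancel, map_one]
        rw [hc, smul_mul_assoc, one_mul] at h1
        rcases eq_or_ne c 0 with h0 | h0
        · refine ⟨0, ?_⟩
          rw [h0, zero_smul] at h1
          rw [zero_smul, ← mul_one (ρ a⁻¹), ← h1, mul_zero]
        · refine ⟨c⁻¹, ?_⟩
          rw [← h1, smul_smul, inv_mul_cancel₀ h0, one_smul] }
  have hKn : K.Normal := by
    constructor
    rintro x ⟨c, hc⟩ g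
    refine ⟨c, ?_⟩
    rw [map_mul, map_mul, hc, mul_smul_comm, mul_one, smul_mul_assoc, ← map_mul, mul_inv_cancel,
      map_one]
  have hKm : (K.map π).Normal := hKn.map π hs
  have htop : K.map π = ⊤ := by
    refine hKm.eq_bot_or_eq_top.resolve_left fun h => hg ?_
    have : π g ∈ K.map π := ⟨g, ⟨c, hc⟩, rfl⟩
    rw [h] at this
    exact Subgroup.mem_bot.1 this
  have hall : ∀ x : Q, ∃ c : ℂ, ρ x = c • (1 : Module.End ℂ (Fin n → ℂ)) := by
    intro x
    have : π x ∈ K.map π := by rw [htop]; trivial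
    obtain ⟨k, ⟨c, hc⟩, hk⟩ := this
    have h1 : k⁻¹ * x ∈ π.ker := by rw [MonoidHom.mem_ker, map_mul, map_inv, hk, inv_mul_cancel]
    refine ⟨c * l ⟨_, h1⟩, ?_⟩
    have h2 : x = k * ((⟨_, h1⟩ : π.ker) : Q) := by
      show x = k * (k⁻¹ * x)
      rw [mul_inv_cancel_left]
    conv_lhs => rw [h2]
    rw [map_mul, hc, hz, smul_mul_smul_comm, mul_one]
  -- irreducible with all elements scalar
  have hfr := Cfsg.Agent.Characters.Central.finrank_pos_of_irr ρ hρ
  rw [Module.finrank_fin_fun] at hfr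
  by_contra hn1
  have h2 : 1 < n := by omega
  -- a line is invariant
  let v : Fin n → ℂ := Pi.single ⟨0, hfr⟩ 1
  let U : Subrepresentation ρ :=
    { toSubmodule := Submodule.span ℂ {v}
      apply_mem_toSubmodule := by
        intro g w hw
        obtain ⟨c, hc⟩ := hall g
        rw [hc]
        exact Submodule.smul_mem _ c hw }
  have hso : IsSimpleOrder (Subrepresentation ρ) := hρ
  rcases hso.eq_bot_or_eq_top U with h | h
  · have h3 : v ∈ (⊥ : Subrepresentation ρ).toSubmodule := by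
      rw [← h]
      exact Submodule.mem_span_singleton_self v
    have h4 : v = 0 := h3
    have h5 := congrFun h4 ⟨0, hfr⟩
    simp [v] at h5
  · have h3 : Submodule.span ℂ {v} = (⊤ : Submodule ℂ (Fin n → ℂ)) := by
      have : U.toSubmodule = (⊤ : Subrepresentation ρ).toSubmodule := by rw [h]
      exact this
    have h4 : Module.finrank ℂ (Submodule.span ℂ {v}) = n := by
      rw [h3, finrank_top, Module.finrank_fin_fun]
    have h5 : Module.finrank ℂ (Submodule.span ℂ {v}) ≤ 1 := by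
      have := finrank_span_le_card (R := ℂ) ({v} : Set (Fin n → ℂ))
      simpa using this
    omega

end Rep

section Sum

variable [Finite Q] {π : Q →* S} (l : π.ker →* ℂˣ)

open Classical in
/-- The sum of `β(1) β` over the irreducible characters over `l` is the induced function. -/
theorem sum_over [Fintype (IrrCharacter Q)] (hc : π.ker ≤ Subgroup.center Q) (g : Q) :
    ∑ β ∈ Finset.univ.filter (fun β : IrrCharacter Q => Over π l (β : Q → ℂ)),
      (β : Q → ℂ) 1 * (β : Q → ℂ) g =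
      if h : g ∈ π.ker then (π.ker.index : ℂ) * l ⟨g, h⟩ else 0 := by
  have := Fintype.ofFinite Q
  have := Fintype.ofFinite π.ker
  let f : Q → ℂ := fun g => if h : g ∈ π.ker then (π.ker.index : ℂ) * l ⟨g, h⟩ else 0
  have hf : IsClassFunction Q f := by
    intro g x
    by_cases h : g ∈ π.ker
    · have h1 : x * g * x⁻¹ = g := by
        rw [Subgroup.mem_center_iff.1 (hc h) x, mul_inv_cancel_right]
      rw [h1]
    · have h1 : x * g * x⁻¹ ∉ π.ker := by
        intro h2
        rw [MonoidHom.mem_ker, map_mul, map_mul, map_inv] at h2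
        apply h
        rw [MonoidHom.mem_ker]
        have := congrArg (fun y => (π x)⁻¹ * y * π x) h2
        simpa [mul_assoc] using this
      show dite _ _ _ = dite _ _ _
      rw [dif_neg h, dif_neg h1]
  have hcard : (Nat.card Q : ℂ) = Nat.card π.ker * π.ker.index := by
    rw [← Nat.cast_mul, Subgroup.card_mul_index]
  have hidx : (π.ker.index : ℂ) ≠ 0 := Nat.cast_ne_zero.2 Subgroup.index_ne_zero_of_finite
  have hin : ∀ χ : IrrCharacter Q, classInner f (χ : Q → ℂ) =
      (Nat.card π.ker : ℂ)⁻¹ * ∑ z : π.ker, (l z : ℂ) * conj ((χ : Q → ℂ) z) := by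
    intro χ
    rw [classInner_def, hcard, mul_inv, mul_assoc]
    congr 1
    have h1 : ∑ g : Q, f g * conj ((χ : Q → ℂ) g) =
        ∑ z : π.ker, (π.ker.index : ℂ) * ((l z : ℂ) * conj ((χ : Q → ℂ) z)) := by
      have h2 : ∑ g : Q, f g * conj ((χ : Q → ℂ) g) =
          ∑ g ∈ Finset.univ.filter (fun g => g ∈ π.ker), f g * conj ((χ : Q → ℂ) g) := by
        rw [Finset.sum_filter]
        refine Finset.sum_congr rfl fun g _ => ?_
        split_ifs with h
        · rfl
        · show dite _ _ _ * _ = _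
          rw [dif_neg h, zero_mul]
      rw [h2]
      symm
      refine Finset.sum_bij (fun (z : π.ker) _ => (z : Q)) ?_ ?_ ?_ ?_
      · intro z _
        exact Finset.mem_filter.2 ⟨Finset.mem_univ _, z.2⟩
      · intro a _ b _ h
        exact Subtype.ext h
      · intro b hb
        exact ⟨⟨b, (Finset.mem_filter.1 hb).2⟩, Finset.mem_univ _, rfl⟩
      · intro z _
        show _ = dite _ _ _ * _
        rw [dif_pos z.2, mul_assoc]
    rw [h1, ← Finset.mul_sum, ← mul_assoc, inv_mul_cancel₀ hidx, one_mul]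
  have hin2 : ∀ χ : IrrCharacter Q, classInner f (χ : Q → ℂ) =
      if Over π l (χ : Q → ℂ) then (χ : Q → ℂ) 1 else 0 := by
    intro χ
    rw [hin]
    obtain ⟨c, hc', -⟩ := Cfsg.Agent.CharactersDeep.Extraspecial.exists_central_hom χ.2
    let c' : π.ker →* ℂˣ := c.comp (Subgroup.inclusion hc)
    have hcc : ∀ (x : Q) (z : π.ker), (χ : Q → ℂ) (x * z) = (χ : Q → ℂ) x * c' z := fun x z =>
      hc' x (Subgroup.inclusion hc z)
    obtain ⟨n, hn0, hn⟩ := isIrr_apply_one χ.2
    have h1 : (Nat.card π.ker : ℂ)⁻¹ * ∑ z : π.ker, (l z : ℂ) * conj ((χ : Q → ℂ) z) =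
        (χ : Q → ℂ) 1 * classInner (homIrr l : π.ker → ℂ) (homIrr c' : π.ker → ℂ) := by
      rw [classInner_def, ← mul_assoc, mul_comm ((χ : Q → ℂ) 1), mul_assoc]
      congr 1
      rw [Finset.mul_sum]
      refine Finset.sum_congr rfl fun z _ => ?_
      have h2 := hcc 1 z
      rw [one_mul] at h2
      rw [h2, homIrr_apply, homIrr_apply, map_mul, hn, map_natCast]
      ring
    rw [h1]
    split_ifs with ho
    · have h2 : (homIrr c' : π.ker → ℂ) = (homIrr l : π.ker → ℂ) := by
        funext z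
        have h3 := hcc 1 z
        rw [ho 1 z] at h3
        exact (mul_left_cancel₀ (isIrr_apply_one_ne_zero χ.2) h3).symm
      rw [h2, classInner_irr_self (homIrr l).2, mul_one]
    · rw [classInner_irr_ne (homIrr l).2 (homIrr c').2, mul_zero]
      intro h2
      apply ho
      intro a z
      rw [hcc, ← homIrr_apply c', ← h2, homIrr_apply]
  have hexp := congrFun (classFunction_eq_sum hf) g
  rw [Finset.sum_apply] at hexp
  rw [Finset.sum_filter]
  show _ = f g
  rw [hexp]
  refine Finset.sum_congr rfl fun χ _ => ?_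
  rw [Pi.smul_apply, hin2, smul_eq_mul]
  split_ifs
  · rfl
  · rw [zero_mul]

end Sum

end Cfsg.Agent.H525.L2
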