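import Cfsg.Agent.H670.SL2Data

/-!
# Subgroups of prime power index of `SL₂(F)`
-/

set_option autoImplicit false
set_option linter.unusedSectionVars false

namespace Cfsg.Agent.H525.L2

open Matrix Cfsg.Agent.H670.RankOne Cfsg.Agent.H670.SL2

universe v

section Gen

variable {F : Type v} [Field F]

/-- Lower unitriangular elements. -/
def y (s : F) : SpecialLinearGroup (Fin 2) F := ⟨!![1, 0; s, 1], by simp [Matrix.det_fin_two_of]⟩

theorem y00 (s : F) : e00 (y s) = 1 := rfl
theorem y01 (s : F) : e01 (y s) = 0 := rfl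
theorem y10 (s : F) : e10 (y s) = s := rfl
theorem y11 (s : F) : e11 (y s) = 1 := rfl

theorem y_eq (s : F) : y s = wel * x (-s) * wel⁻¹ := by
  rw [eq_mul_inv_iff_mul_eq]
  apply ext4 <;> simp only [mul00, mul01, mul10, mul11, x00, x01, x10, x11, y00, y01, y10, y11,
    wel00, wel01, wel10, wel11] <;> ring

/-- The two unitriangular groups generate. -/
theorem eq_top_of_xy (H : Subgroup (SpecialLinearGroup (Fin 2) F)) (hx : ∀ s, x s ∈ H)
    (hy : ∀ s, y s ∈ H) : H = ⊤ := by
  have key : ∀ g : SpecialLinearGroup (Fin 2) F, e10 g ≠ 0 → g ∈ H := by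
    intro g hg
    have hd := det_eq g
    have h1 : g = x ((e00 g - 1) / e10 g) * y (e10 g) * x ((e11 g - 1) / e10 g) := by
      apply ext4 <;> simp only [mul00, mul01, mul10, mul11, x00, x01, x10, x11, y00, y01, y10, y11]
      · field_simp
        ring
      · field_simp
        linear_combination (-1 : F) * hd
      · ring
      · field_simp
        ring
    rw [h1]
    exact H.mul_mem (H.mul_mem (hx _) (hy _)) (hx _)
  rw [eq_top_iff]
  intro g _
  by_cases hg : e10 g = 0
  · have h1 : e10 (g * y 1) ≠ 0 := by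
      rw [mul10, y00, y10, hg, zero_mul, zero_add, mul_one]
      have hd := det_eq g
      rw [hg, mul_zero, sub_zero] at hd
      exact right_ne_zero_of_mul_eq_one hd
    have h2 := H.mul_mem (key _ h1) (H.inv_mem (hy 1))
    rwa [mul_inv_cancel_right] at h2
  · exact key g hg

theorem le_B_of_x (H : Subgroup (SpecialLinearGroup (Fin 2) F)) (hx : ∀ s, x s ∈ H)
    (hH : H ≠ ⊤) : H ≤ (data F).B := by
  intro h hh
  rcases (data F).bruhat h with hb | ⟨s, r, t, ht, hb⟩
  · exact hb
  · exfalso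
    apply hH
    obtain ⟨u, rfl⟩ := ht
    have hb' : h = x s * wel * tor u * x r := hb
    have h1 : wel * tor u ∈ H := by
      have h2 : wel * tor u = (x s)⁻¹ * h * (x r)⁻¹ := by rw [hb']; group
      rw [h2]
      exact H.mul_mem (H.mul_mem (H.inv_mem (hx s)) hh) (H.inv_mem (hx r))
    refine eq_top_of_xy H hx fun c => ?_
    have h3 : tor u⁻¹ * x (-c) * tor u = x (((u⁻¹ : Fˣ) : F) ^ 2 * (-c)) := by
      rw [tor_mul_x, mul_assoc, ← map_mul, inv_mul_cancel, map_one, mul_one]
    have h4 : y c = (wel * tor u) * x (((u⁻¹ : Fˣ) : F) ^ 2 * (-c)) * (wel * tor u)⁻¹ := by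
      rw [← h3, y_eq, map_inv]
      group
    rw [h4]
    exact H.mul_mem (H.mul_mem h1 (hx _)) (H.inv_mem h1)

end Gen

section Fin

variable {F : Type v} [Field F] [Fintype F]

theorem xh_pgroup {p n : ℕ} [Fact p.Prime] (hq : Fintype.card F = p ^ n) :
    IsPGroup p (Multiplicative F) := by
  refine IsPGroup.of_card (n := n) ?_
  rw [← hq, ← Nat.card_eq_fintype_card]
  rfl

theorem card_SL : Nat.card (SpecialLinearGroup (Fin 2) F) =
    (Fintype.card F + 1) * (Fintype.card F * (Fintype.card F - 1)) := by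
  have h := (data F).card_G
  rw [(data F).card_B, card_T] at h
  exact h

/-- The case where the index is prime to the characteristic. -/
theorem index_case_one (H : Subgroup (SpecialLinearGroup (Fin 2) F)) (h4 : 4 ≤ Fintype.card F)
    {p n l a : ℕ} (hp : p.Prime) (hq : Fintype.card F = p ^ n) (hl : l.Prime) (ha : a ≠ 0)
    (hH : H.index = l ^ a) (hlp : l ≠ p) :
    ¬ l ∣ Nat.card H ∨ (l = 2 ∧ Odd (Fintype.card F) ∧ ¬ 4 ∣ Nat.card H) := by
  have : Fact p.Prime := ⟨hp⟩
  have hn : n ≠ 0 := by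
    rintro rfl
    rw [pow_zero] at hq
    omega
  -- a fixed point of the unipotent group
  let _ : MulAction (Multiplicative F) (SpecialLinearGroup (Fin 2) F ⧸ H) :=
    MulAction.compHom _ ((data F).xh)
  have hcard : Nat.card (SpecialLinearGroup (Fin 2) F ⧸ H) = l ^ a := hH
  obtain ⟨gH, hg⟩ := (xh_pgroup hq).nonempty_fixed_point_of_prime_not_dvd_card
    (SpecialLinearGroup (Fin 2) F ⧸ H) (by
      rw [hcard]
      intro h
      exact hlp ((Nat.prime_dvd_prime_iff_eq hp hl).1 (hp.dvd_of_dvd_pow h)).symm)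
  obtain ⟨g, rfl⟩ := QuotientGroup.mk_surjective gH
  let H' : Subgroup (SpecialLinearGroup (Fin 2) F) := H.comap (MulAut.conj g⁻¹).toMonoidHom
  have hmem : ∀ z, z ∈ H' ↔ g⁻¹ * z * g ∈ H := by
    intro z
    show g⁻¹ * z * g⁻¹⁻¹ ∈ H ↔ _
    rw [inv_inv]
  have hx : ∀ s, x s ∈ H' := by
    intro s
    rw [hmem]
    have h1 := hg (Multiplicative.ofAdd s)
    have h2 : ((x s * g : SpecialLinearGroup (Fin 2) F) : SpecialLinearGroup (Fin 2) F ⧸ H) = g := h1
    have h3 := QuotientGroup.eq.1 h2.symm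
    rwa [← mul_assoc] at h3
  have hidx : H'.index = l ^ a := by
    rw [← hH]
    exact Subgroup.index_comap_of_surjective H (MulAut.conj g⁻¹).surjective
  have hcH : Nat.card H = Nat.card H' := by
    have h1 := H.card_mul_index
    have h2 := H'.card_mul_index
    rw [hH] at h1
    rw [hidx, ← h1] at h2
    exact (Nat.eq_of_mul_eq_mul_right (pow_pos hl.pos a) h2).symm
  have hne : H' ≠ ⊤ := by
    intro h
    rw [h, Subgroup.index_top] at hidx
    have h1 : 2 ≤ l ^ a := hl.two_le.trans (Nat.le_self_pow ha l)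
    omega
  have hle := le_B_of_x H' hx hne
  have hq1 : Fintype.card F + 1 ∣ l ^ a := by
    have h1 := Subgroup.index_dvd_of_le hle
    rwa [(data F).index_B, hidx] at h1
  have hcard2 : Nat.card H' ∣ Fintype.card F * (Fintype.card F - 1) := by
    have h1 := Subgroup.card_dvd_of_le hle
    rwa [(data F).card_B, card_T] at h1
  have hlq1 : l ∣ Fintype.card F + 1 := by
    obtain ⟨b, hb, hb'⟩ := (Nat.dvd_prime_pow hl).1 hq1
    rw [hb']
    refine dvd_pow_self l ?_
    rintro rfl
    rw [pow_zero] at hb'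
    omega
  have hlq : ¬ l ∣ Fintype.card F := by
    rw [hq]
    intro h
    exact hlp ((Nat.prime_dvd_prime_iff_eq hl hp).1 (hl.dvd_of_dvd_pow h))
  rw [hcH]
  by_cases hdl : l ∣ Nat.card H'
  · right
    have h1 : l ∣ Fintype.card F - 1 :=
      ((Nat.Prime.dvd_mul hl).1 (hdl.trans hcard2)).resolve_left hlq
    have h2 : l ∣ 2 := by
      have h3 : Fintype.card F + 1 = (Fintype.card F - 1) + 2 := by omega
      rw [h3] at hlq1
      exact (Nat.dvd_add_right h1).1 hlq1
    have h3 : l = 2 := (Nat.prime_dvd_prime_iff_eq hl Nat.prime_two).1 h2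
    subst h3
    have hodd : Odd (Fintype.card F) := by
      rw [← Nat.not_even_iff_odd, even_iff_two_dvd]
      exact hlq
    refine ⟨rfl, hodd, ?_⟩
    intro h4'
    obtain ⟨b, hb, hb'⟩ := (Nat.dvd_prime_pow hl).1 hq1
    have hb2 : 2 ≤ b := by
      by_contra hb2
      have : b = 0 ∨ b = 1 := by omega
      rcases this with rfl | rfl
      · rw [pow_zero] at hb'; omega
      · rw [pow_one] at hb'; omega
    have h5 : 4 ∣ Fintype.card F + 1 := by
      rw [hb']
      exact pow_dvd_pow 2 hb2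
    have h6 : 4 ∣ Fintype.card F * (Fintype.card F - 1) := h4'.trans hcard2
    have h7 : Nat.Coprime 4 (Fintype.card F) := by
      have : Nat.Coprime (2 ^ 2) (Fintype.card F) :=
        Nat.Coprime.pow_left 2 ((Nat.coprime_two_left).2 hodd)
      exact this
    have h8 := h7.dvd_of_dvd_mul_left h6
    omega
  · left
    exact hdl

/-- The case where the index is a power of the characteristic. -/
theorem index_case_two (H : Subgroup (SpecialLinearGroup (Fin 2) F)) (h4 : 4 ≤ Fintype.card F)
    {p n a : ℕ} (hp : p.Prime) (hq : Fintype.card F = p ^ n) (ha : a ≠ 0)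
    (hH : H.index = p ^ a) : ¬ p ∣ Nat.card H := by
  have : Fact p.Prime := ⟨hp⟩
  have hn : n ≠ 0 := by
    rintro rfl
    rw [pow_zero] at hq
    omega
  set q := Fintype.card F with hqdef
  have hpq : p ∣ q := by rw [hq]; exact dvd_pow_self p hn
  have hpq1 : ¬ p ∣ q - 1 := by
    intro h
    have h1 := (Nat.dvd_sub_iff_right (by omega) hpq).1 h
    exact hp.one_lt.ne' (Nat.dvd_one.1 h1)
  have hpq2 : ¬ p ∣ q + 1 := by
    intro h
    exact hp.one_lt.ne' (Nat.dvd_one.1 ((Nat.dvd_add_right hpq).1 h))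
  let B := (data F).B
  let K := H ⊓ B
  have hBi : B.index = q + 1 := (data F).index_B
  have hKi : K.index = p ^ a * (q + 1) := by
    apply le_antisymm
    · have := Subgroup.index_inf_le (H := H) (K := B)
      rwa [hH, hBi] at this
    · refine Nat.le_of_dvd (Nat.pos_of_ne_zero Subgroup.index_ne_zero_of_finite) ?_
      refine Nat.Coprime.mul_dvd_of_dvd_of_dvd ?_ ?_ ?_
      · exact Nat.Coprime.pow_left a ((Nat.Prime.coprime_iff_not_dvd hp).2 hpq2)
      · rw [← hH]; exact Subgroup.index_dvd_of_le inf_le_left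
      · rw [← hBi]; exact Subgroup.index_dvd_of_le inf_le_right
  have hKc : Nat.card K * p ^ a = q * (q - 1) := by
    have h1 := K.card_mul_index
    rw [hKi, card_SL] at h1
    have h2 : (q + 1) * (Nat.card K * p ^ a) = (q + 1) * (q * (q - 1)) := by
      rw [← h1]; ring
    exact Nat.eq_of_mul_eq_mul_left (Nat.succ_pos q) h2
  have hHc : Nat.card H = Nat.card K * (q + 1) := by
    have h1 := H.card_mul_index
    rw [hH, card_SL] at h1
    have h2 : Nat.card H * p ^ a = (Nat.card K * (q + 1)) * p ^ a := by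
      rw [h1, ← hqdef, ← hKc]; ring
    exact Nat.eq_of_mul_eq_mul_right (pow_pos hp.pos a) h2
  -- the projection to the torus
  let φ : K →* (data F).T := (data F).proj.comp (Subgroup.inclusion inf_le_right)
  have hform : ∀ k : K, ∃ s : F, (k : SpecialLinearGroup (Fin 2) F) = x s * (φ k : (data F).T) := by
    rintro ⟨k, hkH, s, t, ht, rfl⟩
    refine ⟨s, ?_⟩
    have h1 : φ ⟨(data F).X s * t, hkH, s, t, ht, rfl⟩ = ⟨t, ht⟩ :=
      (data F).proj_mk s ⟨t, ht⟩ ⟨s, t, ht, rfl⟩
    rw [h1]
    rfl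
  have hcr : Nat.card φ.ker * Nat.card φ.range = Nat.card K := by
    rw [← Subgroup.index_ker, Subgroup.card_mul_index]
  have hkd : Nat.card φ.ker ∣ p ^ n := by
    have h1 : φ.ker.map K.subtype ≤ (data F).U := by
      rintro _ ⟨k, hk, rfl⟩
      obtain ⟨s, hs⟩ := hform k
      rw [(MonoidHom.mem_ker.1 hk : φ k = 1), Subgroup.coe_one, mul_one] at hs
      exact (data F).mem_U.2 ⟨s, hs⟩
    have h2 := Subgroup.card_dvd_of_le h1
    rw [Subgroup.card_map_of_injective K.subtype_injective, ← Nat.card_congr (data F).equivU,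
      Nat.card_eq_fintype_card (α := F), ← hqdef, hq] at h2
    exact h2
  have hrd : Nat.card φ.range ∣ q - 1 := by
    have := Subgroup.card_subgroup_dvd_card φ.range
    rwa [card_T] at this
  obtain ⟨c, -, hc⟩ := (Nat.dvd_prime_pow hp).1 hkd
  have hrq : Nat.card φ.range = q - 1 := by
    apply Nat.dvd_antisymm hrd
    have h1 : p ^ (c + a) * Nat.card φ.range = q * (q - 1) := by
      rw [← hKc, ← hcr, hc, pow_add]; ring
    have h2 : (q - 1).Coprime (p ^ (c + a)) :=
      (Nat.Coprime.pow_left _ ((Nat.Prime.coprime_iff_not_dvd hp).2 hpq1)).symm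
    exact h2.dvd_of_dvd_mul_left (h1 ▸ Dvd.intro_left q rfl)
  have hsurj : ∀ t : (data F).T, ∃ k : K, φ k = t := by
    have h1 : φ.range = ⊤ := by
      apply Subgroup.eq_top_of_card_eq
      rw [hrq, card_T]
    intro t
    have : t ∈ φ.range := by rw [h1]; trivial
    exact this
  have hsq : ∀ r, x r ∈ H → ∀ c : F, x (c ^ 2 * r) ∈ H := by
    intro r hr c
    rcases eq_or_ne c 0 with rfl | hc0
    · have h1 : x ((0 : F) ^ 2 * r) = 1 := by
        rw [zero_pow (by norm_num), zero_mul]
        exact (data F).X_zero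
      rw [h1]
      exact H.one_mem
    · obtain ⟨k, hk⟩ := hsurj ⟨tor (Units.mk0 c hc0), ⟨_, rfl⟩⟩
      obtain ⟨s, hs⟩ := hform k
      rw [hk] at hs
      have hkH : (k : SpecialLinearGroup (Fin 2) F) ∈ H := k.2.1
      have h1 := H.mul_mem (H.mul_mem hkH hr) (H.inv_mem hkH)
      rw [hs] at h1
      have h2 : x s * tor (Units.mk0 c hc0) * x r * (x s * tor (Units.mk0 c hc0))⁻¹ =
          x (c ^ 2 * r) := by
        calc x s * tor (Units.mk0 c hc0) * x r * (x s * tor (Units.mk0 c hc0))⁻¹
            = x s * (tor (Units.mk0 c hc0) * x r) * (tor (Units.mk0 c hc0))⁻¹ * (x s)⁻¹ := by group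
          _ = x s * x (c ^ 2 * r) * (x s)⁻¹ := by
              rw [tor_mul_x, Units.val_mk0]; group
          _ = x (c ^ 2 * r) * x s * (x s)⁻¹ := by
              rw [show x s * x (c ^ 2 * r) = x (c ^ 2 * r) * x s from (data F).X_comm _ _]
          _ = _ := by rw [mul_inv_cancel_right]
      rw [← h2]
      exact h1
  have hall : ∀ s, s ≠ 0 → x s ∈ H → ∀ r, x r ∈ H := by
    intro s hs hsH r
    have hFp : (p : F) = 0 := by
      have h1 : ((q : ℕ) : F) = 0 := FiniteField.cast_card_eq_zero F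
      rw [hq, Nat.cast_pow] at h1
      exact pow_eq_zero_iff hn |>.1 h1
    by_cases h2 : (2 : F) = 0
    · have hchar : ringChar F = 2 := by
        have h3 : ringChar F ∣ 2 := (ringChar.spec F 2).1 (by exact_mod_cast h2)
        rcases (Nat.dvd_prime Nat.prime_two).1 h3 with h4 | h4
        · exact absurd h4 CharP.ringChar_ne_one
        · exact h4
      obtain ⟨c, hc⟩ := FiniteField.isSquare_of_char_two hchar (r / s)
      have h3 : r = c ^ 2 * s := by
        rw [pow_two, ← hc, div_mul_cancel₀ _ hs]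
      rw [h3]
      exact hsq s hsH c
    · have h3 : r = ((r / s + 1) / 2) ^ 2 * s + -(((r / s - 1) / 2) ^ 2 * s) := by
        field_simp
        ring
      rw [h3]
      have h4 : x (((r / s + 1) / 2) ^ 2 * s + -(((r / s - 1) / 2) ^ 2 * s)) =
          x (((r / s + 1) / 2) ^ 2 * s) * (x (((r / s - 1) / 2) ^ 2 * s))⁻¹ := by
        have h5 := (data F).X_add (((r / s + 1) / 2) ^ 2 * s) (-(((r / s - 1) / 2) ^ 2 * s))
        rw [(data F).X_neg] at h5
        exact h5
      rw [h4]
      exact H.mul_mem (hsq s hsH _) (H.inv_mem (hsq s hsH _))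
  by_cases hex : ∃ s, s ≠ 0 ∧ x s ∈ H
  · exfalso
    obtain ⟨s, hs, hsH⟩ := hex
    have hU : (data F).U ≤ H := by
      intro u hu
      obtain ⟨r, rfl⟩ := (data F).mem_U.1 hu
      exact hall s hs hsH r
    have h1 := Subgroup.card_dvd_of_le hU
    rw [← Nat.card_congr (data F).equivU, Nat.card_eq_fintype_card, ← hqdef] at h1
    have h2 := H.card_mul_index
    rw [hH, card_SL, ← hqdef] at h2
    have h3 : q * p ∣ (q + 1) * (q * (q - 1)) := by
      rw [← h2]
      exact Nat.mul_dvd_mul h1 (dvd_pow_self p ha)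
    have h4 : (q + 1) * (q * (q - 1)) = q * ((q + 1) * (q - 1)) := by ring
    rw [h4] at h3
    have h5 := Nat.dvd_of_mul_dvd_mul_left (by omega) h3
    rcases (Nat.Prime.dvd_mul hp).1 h5 with h6 | h6
    · exact hpq2 h6
    · exact hpq1 h6
  · push Not at hex
    have hker : φ.ker = ⊥ := by
      rw [eq_bot_iff]
      intro k hk
      obtain ⟨s, hs⟩ := hform k
      rw [(MonoidHom.mem_ker.1 hk : φ k = 1), Subgroup.coe_one, mul_one] at hs
      have hkH : (k : SpecialLinearGroup (Fin 2) F) ∈ H := k.2.1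
      have h0 : s = 0 := by
        by_contra h0
        exact hex s h0 (hs ▸ hkH)
      rw [Subgroup.mem_bot]
      apply Subtype.ext
      rw [hs, h0]
      exact (data F).X_zero
    rw [hker, Subgroup.card_bot, one_mul, hrq] at hcr
    rw [hHc, ← hcr]
    intro h
    rcases (Nat.Prime.dvd_mul hp).1 h with h1 | h1
    · exact hpq1 h1
    · exact hpq2 h1

end Fin

end Cfsg.Agent.H525.L2
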