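import Cfsg.Agent.H525.L2.Central
import Cfsg.Agent.Characters.AverageRoots
import Cfsg.Agent.Characters.SchurBound

/-!
# Real elements of order 3 or 5 and characters over a linear character of a central kernel
-/

set_option autoImplicit false
set_option linter.unusedSectionVars false

namespace Cfsg.Agent.H525.L2

open Cfsg
open scoped ComplexConjugate
open Cfsg.Agent.Characters.Core

universe u v

variable {Q : Type u} [Group Q] {S : Type v} [Group S]

theorem exists_scale {π : Q →* S} (hc : π.ker ≤ Subgroup.center Q) (l : π.ker →* ℂˣ)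
    {s : ℕ} (hs : Odd s) {x w : Q} (hxs : x ^ s ∈ π.ker) (hw : w * x * w⁻¹ * x ∈ π.ker) :
    ∃ c : ℂ, c ^ 2 * l ⟨_, hw⟩ = 1 ∧ c ^ s * l ⟨_, hxs⟩ = 1 := by
  have hz0 : (l ⟨_, hw⟩ : ℂ) ≠ 0 := Units.ne_zero _
  obtain ⟨c0, hc0⟩ := IsAlgClosed.exists_pow_nat_eq ((l ⟨_, hw⟩ : ℂ)⁻¹) (n := 2) (by norm_num)
  have h1 : c0 ^ 2 * l ⟨_, hw⟩ = 1 := by rw [hc0, inv_mul_cancel₀ hz0]
  -- the group relation
  have hrel : (w * x * w⁻¹ * x) ^ s = (x ^ s) ^ 2 := by
    have e1 : w * x ^ s * w⁻¹ = x ^ s := by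
      rw [Subgroup.mem_center_iff.1 (hc hxs) w, mul_inv_cancel_right]
    have e2 : Commute (w * x * w⁻¹ * x) (x⁻¹) := (Subgroup.mem_center_iff.1 (hc hw) x⁻¹).symm
    have e3 : (w * x * w⁻¹ * x) * x⁻¹ = w * x * w⁻¹ := by group
    have e4 : ((w * x * w⁻¹ * x) * x⁻¹) ^ s = (w * x * w⁻¹ * x) ^ s * x⁻¹ ^ s := e2.mul_pow s
    rw [e3, conj_pow, e1] at e4
    have e5 : (w * x * w⁻¹ * x) ^ s = x ^ s * x ^ s := by
      rw [eq_comm] at e4
      rw [inv_pow, mul_inv_eq_iff_eq_mul] at e4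
      exact e4
    rw [e5, pow_two]
  have hl : (l ⟨_, hw⟩) ^ s = (l ⟨_, hxs⟩) ^ 2 := by
    rw [← map_pow, ← map_pow]
    congr 1
    exact Subtype.ext hrel
  have hl' : (l ⟨_, hw⟩ : ℂ) ^ s = (l ⟨_, hxs⟩ : ℂ) ^ 2 := by
    exact_mod_cast congrArg Units.val hl
  have h2 : (c0 ^ s * l ⟨_, hxs⟩) ^ 2 = 1 := by
    rw [mul_pow, ← hl', ← pow_mul, mul_comm s 2, pow_mul, ← mul_pow, h1, one_pow]
  rcases mul_self_eq_one_iff.1 ((pow_two _).symm.trans h2) with h | h
  · exact ⟨c0, h1, h⟩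
  · refine ⟨-c0, by rw [neg_sq, h1], ?_⟩
    rw [hs.neg_pow, neg_mul, h, neg_neg]

/-- The multiplicity of an invariant extension of `l` to `⟨x⟩ ker π`. -/
theorem real_mult [Finite Q] [IsSimpleGroup S] {π : Q →* S} (hs : Function.Surjective π)
    (hc : π.ker ≤ Subgroup.center Q) (l : π.ker →* ℂˣ) {s : ℕ} (hs35 : s = 3 ∨ s = 5) {x w : Q}
    (hx1 : π x ≠ 1) (hxs : x ^ s ∈ π.ker) (hw : w * x * w⁻¹ * x ∈ π.ker) :
    ∃ c : ℂ, ∀ β : Q → ℂ, IsIrrCharacter Q β → Over π l β → ∀ d : ℕ, β 1 = d →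
      ∃ a : ℕ, (s : ℂ) * a = ∑ k ∈ Finset.range s, c ^ k * β (x ^ k) ∧ (a = d → d = 1) ∧
        a ≤ d ∧ a % 2 = d % 2 := by
  have hodd : Odd s := by rcases hs35 with rfl | rfl <;> decide
  have hs0 : (s : ℂ) ≠ 0 := by rcases hs35 with rfl | rfl <;> norm_num
  obtain ⟨c, hc1, hc2⟩ := exists_scale hc l hodd hxs hw
  refine ⟨c, fun β hβ ho d hd => ?_⟩
  have hβ' := hβ
  have hcl := isIrr_isClassFunction hβ
  obtain ⟨n, ρ, hρ, rfl, hz⟩ := exists_rep hc hβ ho
  rw [Representation.char_one, Module.finrank_fin_fun] at hd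
  have hnd : n = d := by exact_mod_cast hd
  subst hnd
  -- the operator
  let U : Module.End ℂ (Fin n → ℂ) := c • ρ x
  have hUk : ∀ k, U ^ k = c ^ k • ρ (x ^ k) := by
    intro k
    rw [map_pow, smul_pow]
  have hUs : U ^ s = 1 := by
    rw [hUk]
    have h1 := hz ⟨_, hxs⟩
    have h2 : ρ (x ^ s) = (l ⟨_, hxs⟩ : ℂ) • (1 : Module.End ℂ (Fin n → ℂ)) := h1
    rw [h2, smul_smul, hc2, one_smul]
  let P : Module.End ℂ (Fin n → ℂ) := (s : ℂ)⁻¹ • ∑ k ∈ Finset.range s, U ^ k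
  have hUP : U * P = P := by
    show U * ((s : ℂ)⁻¹ • ∑ k ∈ Finset.range s, U ^ k) = (s : ℂ)⁻¹ • ∑ k ∈ Finset.range s, U ^ k
    rw [mul_smul_comm, Finset.mul_sum]
    congr 1
    have h1 := Finset.sum_range_succ (fun k => U ^ k) s
    have h2 := Finset.sum_range_succ' (fun k => U ^ k) s
    rw [h1, hUs, pow_zero] at h2
    have h3 := add_right_cancel h2
    rw [h3]
    exact Finset.sum_congr rfl fun k _ => by rw [← pow_succ']
  have hUkP : ∀ k, U ^ k * P = P := by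
    intro k
    induction k with
    | zero => rw [pow_zero, one_mul]
    | succ k ih => rw [pow_succ, mul_assoc, hUP, ih]
  have hPP : P * P = P := by
    show ((s : ℂ)⁻¹ • ∑ k ∈ Finset.range s, U ^ k) * P = P
    rw [smul_mul_assoc, Finset.sum_mul, Finset.sum_congr rfl fun k _ => hUkP k, Finset.sum_const,
      Finset.card_range, ← Nat.cast_smul_eq_nsmul ℂ, smul_smul, inv_mul_cancel₀ hs0, one_smul]
  have htr : LinearMap.trace ℂ _ P = (s : ℂ)⁻¹ * ∑ k ∈ Finset.range s, c ^ k * ρ.character (x ^ k) := by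
    show LinearMap.trace ℂ _ ((s : ℂ)⁻¹ • ∑ k ∈ Finset.range s, U ^ k) = _
    rw [map_smul, map_sum, smul_eq_mul]
    congr 1
    refine Finset.sum_congr rfl fun k _ => ?_
    rw [hUk, map_smul, smul_eq_mul]
    rfl
  have hidem : IsIdempotentElem P := hPP
  have htr2 : LinearMap.trace ℂ _ P = (Module.finrank ℂ (LinearMap.range P) : ℂ) :=
    (LinearMap.IsIdempotentElem.isProj_range P hidem).trace
  refine ⟨Module.finrank ℂ (LinearMap.range P), ?_, ?_, ?_, ?_⟩
  · rw [← htr2, htr, ← mul_assoc, mul_inv_cancel₀ hs0, one_mul]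
  · intro h
    have h1 : P = 1 := by
      by_contra hne
      apply Cfsg.Agent.CharDeep.DegreeBound.compl_one_ne_zero P hPP hne
      rw [htr2, h, LinearMap.trace_one, Module.finrank_fin_fun, sub_self]
    rw [h1, mul_one] at hUP
    have hc0 : c ≠ 0 := by
      rintro rfl
      rw [zero_pow (by norm_num), zero_mul] at hc1
      exact zero_ne_one hc1
    have h2 : ρ x = c⁻¹ • (1 : Module.End ℂ (Fin n → ℂ)) := by
      rw [← hUP, smul_smul, inv_mul_cancel₀ hc0, one_smul]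
    exact eq_one_of_scalar hs hρ hz hx1 h2
  · have := (LinearMap.range P).finrank_le
    rwa [Module.finrank_fin_fun] at this
  · -- parity
    set a := Module.finrank ℂ (LinearMap.range P) with ha
    have hsa : (s : ℂ) * a = ∑ k ∈ Finset.range s, c ^ k * ρ.character (x ^ k) := by
      rw [← htr2, htr, ← mul_assoc, mul_inv_cancel₀ hs0, one_mul]
    have hc0 : c ≠ 0 := by
      rintro rfl
      rw [zero_pow (by norm_num), zero_mul] at hc1
      exact zero_ne_one hc1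
    -- symmetry
    have hsym : ∀ k, k ≤ s → c ^ (s - k) * ρ.character (x ^ (s - k)) = c ^ k * ρ.character (x ^ k) := by
      intro k hk
      have hw' : w * x * w⁻¹ = x⁻¹ * (w * x * w⁻¹ * x) := by
        rw [Subgroup.mem_center_iff.1 (hc hw) x⁻¹]
        group
      have e1 : w * x ^ k * w⁻¹ = (x ^ k)⁻¹ * (w * x * w⁻¹ * x) ^ k := by
        have h1 : Commute x⁻¹ (w * x * w⁻¹ * x) := Subgroup.mem_center_iff.1 (hc hw) x⁻¹
        calc w * x ^ k * w⁻¹ = (w * x * w⁻¹) ^ k := (conj_pow).symm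
          _ = (x⁻¹ * (w * x * w⁻¹ * x)) ^ k := congrArg (· ^ k) hw'
          _ = _ := by rw [h1.mul_pow, inv_pow]
      have e2 : ρ.character (x ^ k) = ρ.character ((x ^ k)⁻¹) * (l ⟨_, hw⟩ : ℂ) ^ k := by
        rw [← hcl (x ^ k) w, e1]
        have h2 := ho ((x ^ k)⁻¹) (⟨_, hw⟩ ^ k)
        rw [map_pow, Units.val_pow_eq_pow_val] at h2
        exact h2
      have e3 : ρ.character (x ^ (s - k)) = ρ.character ((x ^ k)⁻¹) * (l ⟨_, hxs⟩ : ℂ) := by
        have h2 := ho ((x ^ k)⁻¹) ⟨_, hxs⟩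
        have h3 : x ^ (s - k) = (x ^ k)⁻¹ * x ^ s := by
          rw [eq_inv_mul_iff_mul_eq, ← pow_add]
          congr 1
          omega
        rw [h3]
        exact h2
      have hl0 : (l ⟨_, hw⟩ : ℂ) ≠ 0 := Units.ne_zero _
      have e4 : c ^ (s - k) * c ^ k = c ^ s := by
        rw [← pow_add]
        congr 1
        omega
      have e5 : c ^ k * (c ^ k * (l ⟨_, hw⟩ : ℂ) ^ k) = 1 := by
        rw [← mul_assoc, ← mul_pow, ← mul_pow, ← pow_two, hc1, one_pow]
      rw [e2, e3]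
      have hck : c ^ k ≠ 0 := pow_ne_zero _ hc0
      apply mul_left_cancel₀ hck
      calc c ^ k * (c ^ (s - k) * (ρ.character ((x ^ k)⁻¹) * (l ⟨_, hxs⟩ : ℂ)))
          = (c ^ (s - k) * c ^ k) * (l ⟨_, hxs⟩ : ℂ) * ρ.character ((x ^ k)⁻¹) := by ring
        _ = (c ^ k * (c ^ k * (l ⟨_, hw⟩ : ℂ) ^ k)) * ρ.character ((x ^ k)⁻¹) := by
            rw [e4, hc2, e5]
        _ = _ := by ring
    -- integrality
    have hcint : IsIntegral ℤ c := by
      have h1 : IsIntegral ℤ ((l ⟨_, hw⟩ : ℂ)⁻¹) := by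
        have h2 : 0 < Nat.card π.ker := Nat.card_pos
        refine IsIntegral.of_pow h2 ?_
        have h3 : (l ⟨_, hw⟩) ^ Nat.card π.ker = 1 := by
          rw [← map_pow, pow_card_eq_one', map_one]
        rw [inv_pow, ← Units.val_pow_eq_pow_val, h3, Units.val_one, inv_one]
        exact isIntegral_one
      refine IsIntegral.of_pow (n := 2) (by norm_num) ?_
      rwa [eq_inv_of_mul_eq_one_left hc1]
    have hgint : ∀ k, IsIntegral ℤ (c ^ k * ρ.character (x ^ k)) := fun k =>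
      (hcint.pow k).mul (Cfsg.Agent.Characters.AverageRoots.isIntegral_character ρ _)
    have hcn : ρ.character (x ^ 0) = n := by
      rw [pow_zero, Representation.char_one, Module.finrank_fin_fun]
    obtain ⟨g, hg, hsum⟩ : ∃ g : ℂ, IsIntegral ℤ g ∧ (s : ℂ) * a = n + 2 * g := by
      rcases hs35 with rfl | rfl
      · refine ⟨c ^ 1 * ρ.character (x ^ 1), hgint 1, ?_⟩
        rw [hsa]
        have h1 := hsym 1 (by norm_num)
        norm_num [Finset.sum_range_succ, hcn] at h1 ⊢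
        rw [h1]
        ring
      · refine ⟨c ^ 1 * ρ.character (x ^ 1) + c ^ 2 * ρ.character (x ^ 2),
          (hgint 1).add (hgint 2), ?_⟩
        rw [hsa]
        have h1 := hsym 1 (by norm_num)
        have h2 := hsym 2 (by norm_num)
        norm_num [Finset.sum_range_succ, hcn] at h1 h2 ⊢
        rw [h1, h2]
        ring
    have hgq : g = (((s : ℚ) * a - n) / 2 : ℚ) := by
      push_cast
      rw [hsum]
      ring
    obtain ⟨m, hm⟩ := Cfsg.Agent.Characters.SchurBound.exists_int_of_rat hg hgq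
    rw [hm] at hsum
    have h3 : (s : ℤ) * a = n + 2 * m := by exact_mod_cast hsum
    rcases hs35 with rfl | rfl
    · push_cast at h3
      omega
    · push_cast at h3
      omega

end Cfsg.Agent.H525.L2
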