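import Cfsg.Agent.H595.Central
import Cfsg.Agent.H595.Solv
import Cfsg.Agent.Characters.Linear
import Cfsg.Agent.S0187

/-!
# Characters of small degree and a torus normalizing an abelian subgroup
-/

set_option autoImplicit false
set_option linter.unusedSectionVars false

namespace Cfsg.Agent.H525.L2

open Cfsg
open scoped ComplexConjugate
open Cfsg.Agent.Characters.Core
open Cfsg.Agent.H595.Solv

universe u

theorem torus {Q : Type u} [Group Q] [Finite Q] {χ : Q → ℂ} (hχ : IsCharacter Q χ)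
    (V : Subgroup Q) (hV : ∀ x ∈ V, ∀ y ∈ V, x * y = y * x) (t : Q)
    (ht : ∀ x ∈ V, t * x * t⁻¹ ∈ V) (A : Subgroup Q) (hA : A ≤ Subgroup.center Q) (hAV : A ≤ V)
    (n : ℕ) (hfree : ∀ k, 0 < k → k < n → ∀ u ∈ V, ∃ v ∈ V, ∃ z ∈ A,
      u = t ^ k * v * (t ^ k)⁻¹ * v⁻¹ * z)
    (m : ℕ) (hm : χ 1 = m) (hmn : m < n) (x : Q) (hx : x ∈ V) :
    χ (t * x * t⁻¹ * x⁻¹) = χ 1 := by
  classical
  have := finite_irr (G := V)
  have := Fintype.ofFinite (IrrCharacter V)
  have := Fintype.ofFinite V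
  let f : V → ℂ := χ ∘ V.subtype
  have hf : IsCharacter V f := isCharacter_comp V.subtype hχ
  obtain ⟨a, ha⟩ := exists_nat_comb hf
  have hcoef : ∀ μ : IrrCharacter V, classInner f (μ : V → ℂ) = a μ := by
    intro μ
    conv_lhs => rw [ha]
    exact classInner_sum_nsmul_irr a μ
  -- conjugation by `t`
  let c0 : V →* V :=
    { toFun := fun x => ⟨t * x * t⁻¹, ht x x.2⟩
      map_one' := Subtype.ext (by simp)
      map_mul' := fun x y => Subtype.ext (by
        show t * ((x : Q) * y) * t⁻¹ = t * x * t⁻¹ * (t * y * t⁻¹)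
        group) }
  have hc0 : Function.Injective c0 := by
    intro x y h
    have h1 : t * (x : Q) * t⁻¹ = t * y * t⁻¹ := congrArg Subtype.val h
    exact Subtype.ext (mul_left_cancel (mul_right_cancel h1))
  let c : V ≃* V := MulEquiv.ofBijective c0 ⟨hc0, Finite.surjective_of_injective hc0⟩
  have hc : ∀ x : V, ((c x : V) : Q) = t * x * t⁻¹ := fun _ => rfl
  have hfc : f ∘ c = f := by
    funext x
    show χ (t * x * t⁻¹) = χ x
    exact isCharacter_isClassFunction hχ _ _
  have hatw : ∀ μ, a (twist c μ) = a μ := by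
    intro μ
    have h1 : classInner f ((twist c μ : IrrCharacter V) : V → ℂ) = classInner f (μ : V → ℂ) := by
      have h2 : ((twist c μ : IrrCharacter V) : V → ℂ) = (μ : V → ℂ) ∘ c := rfl
      rw [h2]
      conv_lhs => rw [← hfc]
      exact classInner_comp_equiv c _ _
    rw [hcoef, hcoef] at h1
    exact_mod_cast h1
  -- linear characters
  have hlin : ∀ μ : IrrCharacter V, ∃ g : V →* ℂˣ, (μ : V → ℂ) = fun x => (g x : ℂ) := by
    intro μ
    refine Cfsg.Agent.Characters.Linear.exists_hom_of_isIrrCharacter μ.2 ?_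
    exact Cfsg.Agent.S0187.result.1 (fun a b => Subtype.ext (hV a a.2 b b.2)) μ
  have hone : ∀ μ : IrrCharacter V, (μ : V → ℂ) 1 = 1 := by
    intro μ
    obtain ⟨g, hg⟩ := hlin μ
    rw [hg]
    simp
  have hsum : ∑ μ, a μ = m := by
    have h1 : f 1 = m := by
      show χ ((1 : V) : Q) = m
      rw [Subgroup.coe_one, hm]
    have h2 := congrFun ha 1
    rw [h1, Finset.sum_apply] at h2
    have h3 : ∀ μ : IrrCharacter V, (a μ • (μ : V → ℂ)) 1 = (a μ : ℂ) := by
      intro μ
      rw [Pi.smul_apply, hone, nsmul_eq_mul, mul_one]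
    rw [Finset.sum_congr rfl fun μ _ => h3 μ, ← Nat.cast_sum] at h2
    exact_mod_cast h2.symm
  have hinj : Function.Injective (twist c : IrrCharacter V → IrrCharacter V) := by
    intro μ ν h
    apply Subtype.ext
    funext x
    obtain ⟨y, rfl⟩ := c.surjective x
    exact congrFun (congrArg Subtype.val h) y
  have hit : ∀ (k : ℕ) (μ : IrrCharacter V) (x : V) (y : V), (y : Q) = t ^ k * x * (t ^ k)⁻¹ →
      (((twist c)^[k] μ : IrrCharacter V) : V → ℂ) x = (μ : V → ℂ) y := by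
    intro k
    induction k with
    | zero =>
      intro μ x y h
      have : y = x := Subtype.ext (by simpa using h)
      rw [this]
      rfl
    | succ k ih =>
      intro μ x y h
      rw [Function.iterate_succ_apply']
      show (((twist c)^[k] μ : IrrCharacter V) : V → ℂ) (c x) = (μ : V → ℂ) y
      refine ih μ (c x) y ?_
      rw [h, hc, pow_succ]
      group
  have hfix : ∀ μ : IrrCharacter V, a μ ≠ 0 → twist c μ = μ := by
    intro μ hμ
    have hak : ∀ k, a ((twist c)^[k] μ) = a μ := by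
      intro k
      induction k with
      | zero => rfl
      | succ k ih => rw [Function.iterate_succ_apply', hatw, ih]
    -- a repetition
    obtain ⟨k, hk0, hkn, hk⟩ : ∃ k, 0 < k ∧ k < n ∧ (twist c)^[k] μ = μ := by
      by_contra hcon
      push Not at hcon
      have hinj2 : Set.InjOn (fun k => (twist c)^[k] μ) (Finset.range n : Set ℕ) := by
        have key : ∀ i j, i < j → j < n → (twist c)^[i] μ ≠ (twist c)^[j] μ := by
          intro i j hij hj h
          have h1 : (twist c)^[j] μ = (twist c)^[i] ((twist c)^[j - i] μ) := by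
            rw [← Function.iterate_add_apply]
            congr 2
            omega
          rw [h1] at h
          have h2 := (hinj.iterate i) h
          exact hcon (j - i) (by omega) (by omega) h2.symm
        intro i hi j hj h
        have hi' : i < n := by simpa using hi
        have hj' : j < n := by simpa using hj
        rcases lt_trichotomy i j with hlt | heq | hlt
        · exact absurd h (key i j hlt hj')
        · exact heq
        · exact absurd h.symm (key j i hlt hi')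
      have h1 : ∑ ν ∈ (Finset.range n).image (fun k => (twist c)^[k] μ), a ν = n * a μ := by
        rw [Finset.sum_image hinj2, Finset.sum_congr rfl fun k _ => hak k, Finset.sum_const,
          Finset.card_range, smul_eq_mul]
      have h2 : ∑ ν ∈ (Finset.range n).image (fun k => (twist c)^[k] μ), a ν ≤ ∑ ν, a ν :=
        Finset.sum_le_sum_of_subset (Finset.subset_univ _)
      rw [h1, hsum] at h2
      have h3 : n * 1 ≤ n * a μ := Nat.mul_le_mul_left n (Nat.pos_of_ne_zero hμ)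
      omega
    -- hence `μ` is fixed by `t`
    obtain ⟨g, hg⟩ := hlin μ
    have htk : ∀ v ∈ V, t ^ k * v * (t ^ k)⁻¹ ∈ V := by
      have : ∀ j : ℕ, ∀ v ∈ V, t ^ j * v * (t ^ j)⁻¹ ∈ V := by
        intro j
        induction j with
        | zero => intro v hv; simpa using hv
        | succ j ih =>
          intro v hv
          have h1 := ht _ (ih v hv)
          have h2 : t ^ (j + 1) * v * (t ^ (j + 1))⁻¹ = t * (t ^ j * v * (t ^ j)⁻¹) * t⁻¹ := by
            rw [pow_succ']
            group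
          rw [h2]
          exact h1
      exact this k
    have hgk : ∀ v (hv : v ∈ V), g ⟨_, htk v hv⟩ = g ⟨v, hv⟩ := by
      intro v hv
      have h1 := hit k μ ⟨v, hv⟩ ⟨_, htk v hv⟩ rfl
      rw [hk, hg] at h1
      exact Units.ext h1.symm
    apply Subtype.ext
    funext u
    show (μ : V → ℂ) (c u) = (μ : V → ℂ) u
    rw [hg]
    show ((g (c u) : ℂˣ) : ℂ) = g u
    congr 1
    obtain ⟨v, hv, z, hz, huz⟩ := hfree k hk0 hkn u u.2
    have e1 : u = ⟨_, htk v hv⟩ * (⟨v, hv⟩ : V)⁻¹ * ⟨z, hAV hz⟩ := Subtype.ext huz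
    have e2 : c u = ⟨_, htk _ (ht v hv)⟩ * (⟨_, ht v hv⟩ : V)⁻¹ * ⟨z, hAV hz⟩ := by
      apply Subtype.ext
      rw [hc, huz]
      show t * (t ^ k * v * (t ^ k)⁻¹ * v⁻¹ * z) * t⁻¹ =
        t ^ k * (t * v * t⁻¹) * (t ^ k)⁻¹ * (t * v * t⁻¹)⁻¹ * z
      have h1 : z * t⁻¹ = t⁻¹ * z := (Subgroup.mem_center_iff.1 (hA hz) t⁻¹).symm
      have h2 : t ^ k * t = t * t ^ k := by rw [← pow_succ, pow_succ']
      have h3 : t⁻¹ * (t ^ k)⁻¹ = (t ^ k)⁻¹ * t⁻¹ := by rw [← mul_inv_rev, ← mul_inv_rev, h2]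
      calc t * (t ^ k * v * (t ^ k)⁻¹ * v⁻¹ * z) * t⁻¹
          = (t * t ^ k) * v * (t ^ k)⁻¹ * v⁻¹ * (z * t⁻¹) := by group
        _ = (t ^ k * t) * v * (t ^ k)⁻¹ * v⁻¹ * (t⁻¹ * z) := by rw [h1, h2]
        _ = t ^ k * t * v * ((t ^ k)⁻¹ * t⁻¹) * (t * v⁻¹ * t⁻¹) * z := by group
        _ = t ^ k * t * v * (t⁻¹ * (t ^ k)⁻¹) * (t * v⁻¹ * t⁻¹) * z := by rw [h3]
        _ = _ := by group
    rw [e2]
    conv_rhs => rw [e1]
    rw [map_mul, map_mul, map_mul, map_mul, map_inv, map_inv, hgk v hv,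
      hgk _ (ht v hv), mul_inv_cancel, mul_inv_cancel]
  -- conclusion
  have hval : ∀ μ : IrrCharacter V, a μ ≠ 0 →
      (μ : V → ℂ) (c ⟨x, hx⟩ * (⟨x, hx⟩ : V)⁻¹) = 1 := by
    intro μ hμ
    obtain ⟨g, hg⟩ := hlin μ
    have h1 := congrFun (congrArg Subtype.val (hfix μ hμ)) ⟨x, hx⟩
    have h2 : (μ : V → ℂ) (c ⟨x, hx⟩) = (μ : V → ℂ) ⟨x, hx⟩ := h1
    rw [hg] at h2 ⊢
    have h3 : g (c ⟨x, hx⟩) = g ⟨x, hx⟩ := Units.ext h2
    show ((g (c ⟨x, hx⟩ * (⟨x, hx⟩ : V)⁻¹) : ℂˣ) : ℂ) = 1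
    rw [map_mul, map_inv, h3, mul_inv_cancel, Units.val_one]
  have h1 : χ (t * x * t⁻¹ * x⁻¹) = f (c ⟨x, hx⟩ * (⟨x, hx⟩ : V)⁻¹) := rfl
  have h2 : χ 1 = f 1 := rfl
  rw [h1, h2, ha, Finset.sum_apply, Finset.sum_apply]
  refine Finset.sum_congr rfl fun μ _ => ?_
  rw [Pi.smul_apply, Pi.smul_apply]
  by_cases hμ : a μ = 0
  · rw [hμ, zero_smul, zero_smul]
  · rw [hval μ hμ, hone]

end Cfsg.Agent.H525.L2
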