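import Cfsg.Agent.H525.L2.Frame
import Cfsg.Agent.H525.L2.Degrees
import Cfsg.Agent.H525.L2.Torus

/-!
# The preimage of the unipotent subgroup in a central extension of `PSL₂(F)`
-/

set_option autoImplicit false
set_option linter.unusedSectionVars false

namespace Cfsg.Agent.H525.L2

open Cfsg
open scoped ComplexConjugate
open Cfsg.Agent.Characters.Core

universe u

section Comm

variable {Q S : Type u} [Group Q] [Group S] {F : Type} [Field F] (D : Fr S F) (π : Q →* S)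

/-- The preimage of the unipotent subgroup. -/
def V : Subgroup Q where
  carrier := {x | ∃ r : F, π x = D.X r}
  one_mem' := ⟨0, by rw [map_one, D.X_zero]⟩
  mul_mem' := by
    rintro a b ⟨r, hr⟩ ⟨s, hs⟩
    exact ⟨r + s, by rw [map_mul, hr, hs, D.X_add]⟩
  inv_mem' := by
    rintro a ⟨r, hr⟩
    exact ⟨-r, by rw [map_inv, hr, D.X_neg]⟩

theorem mem_V {x : Q} : x ∈ V D π ↔ ∃ r : F, π x = D.X r := Iff.rfl

theorem ker_le_V : π.ker ≤ V D π := fun x hx => ⟨0, by rw [D.X_zero]; exact hx⟩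

variable {D π}

theorem comm_mem {x y : Q} {r s : F} (hx : π x = D.X r) (hy : π y = D.X s) :
    x * y * x⁻¹ * y⁻¹ ∈ π.ker := by
  rw [MonoidHom.mem_ker, map_mul, map_mul, map_mul, map_inv, map_inv, hx, hy, ← D.X_neg, ← D.X_neg,
    ← D.X_add, ← D.X_add, ← D.X_add]
  have h : r + s + -r + -s = 0 := by ring
  rw [h, D.X_zero]

/-- Commutators only depend on the images. -/
theorem comm_eq (hc : π.ker ≤ Subgroup.center Q) {x y x' y' : Q} (hx : π x = π x')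
    (hy : π y = π y') : x * y * x⁻¹ * y⁻¹ = x' * y' * x'⁻¹ * y'⁻¹ := by
  have h1 : x'⁻¹ * x ∈ π.ker := by rw [MonoidHom.mem_ker, map_mul, map_inv, hx, inv_mul_cancel]
  have h2 : y'⁻¹ * y ∈ π.ker := by rw [MonoidHom.mem_ker, map_mul, map_inv, hy, inv_mul_cancel]
  obtain ⟨z, hz, rfl⟩ : ∃ z ∈ π.ker, x = x' * z := ⟨_, h1, by rw [mul_inv_cancel_left]⟩
  obtain ⟨t, ht, rfl⟩ : ∃ t ∈ π.ker, y = y' * t := ⟨_, h2, by rw [mul_inv_cancel_left]⟩
  have cz := Subgroup.mem_center_iff.1 (hc hz)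
  have ct := Subgroup.mem_center_iff.1 (hc ht)
  calc x' * z * (y' * t) * (x' * z)⁻¹ * (y' * t)⁻¹
      = x' * (z * y') * (t * z⁻¹) * x'⁻¹ * t⁻¹ * y'⁻¹ := by group
    _ = x' * (y' * z) * (z⁻¹ * t) * x'⁻¹ * t⁻¹ * y'⁻¹ := by rw [← cz y', ct z⁻¹]
    _ = x' * y' * (t * (x'⁻¹ * t⁻¹)) * y'⁻¹ := by group
    _ = x' * y' * (x'⁻¹ * t⁻¹ * t) * y'⁻¹ := by rw [ct]
    _ = _ := by group

theorem comm_mul_left (hc : π.ker ≤ Subgroup.center Q) {x x' y : Q}
    (h : x' * y * x'⁻¹ * y⁻¹ ∈ π.ker) :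
    (x * x') * y * (x * x')⁻¹ * y⁻¹ = (x * y * x⁻¹ * y⁻¹) * (x' * y * x'⁻¹ * y⁻¹) := by
  have c := Subgroup.mem_center_iff.1 (hc h)
  calc (x * x') * y * (x * x')⁻¹ * y⁻¹
      = x * (x' * y * x'⁻¹ * y⁻¹) * (y * x⁻¹ * y⁻¹) := by group
    _ = x * ((x' * y * x'⁻¹ * y⁻¹) * (y * x⁻¹ * y⁻¹)) := by rw [mul_assoc]
    _ = x * ((y * x⁻¹ * y⁻¹) * (x' * y * x'⁻¹ * y⁻¹)) := by rw [c]
    _ = _ := by group

theorem comm_mul_right (hc : π.ker ≤ Subgroup.center Q) {x y y' : Q}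
    (h : x * y' * x⁻¹ * y'⁻¹ ∈ π.ker) :
    x * (y * y') * x⁻¹ * (y * y')⁻¹ = (x * y * x⁻¹ * y⁻¹) * (x * y' * x⁻¹ * y'⁻¹) := by
  have c := Subgroup.mem_center_iff.1 (hc h)
  calc x * (y * y') * x⁻¹ * (y * y')⁻¹
      = (x * y * x⁻¹) * ((x * y' * x⁻¹ * y'⁻¹) * y⁻¹) := by group
    _ = (x * y * x⁻¹) * (y⁻¹ * (x * y' * x⁻¹ * y'⁻¹)) := by rw [c]
    _ = _ := by group

/-- The commutator pairing. -/
theorem exists_pairing (D : Fr S F) (hs : Function.Surjective π) (hc : π.ker ≤ Subgroup.center Q) :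
    ∃ b : F → F → Q, (∀ r s, b r s ∈ π.ker) ∧
      (∀ x y r s, π x = D.X r → π y = D.X s → x * y * x⁻¹ * y⁻¹ = b r s) ∧
      (∀ r r' s, b (r + r') s = b r s * b r' s) ∧ (∀ r s s', b r (s + s') = b r s * b r s') ∧
      ∀ (a : Fˣ) r s, b ((a : F) ^ 2 * r) ((a : F) ^ 2 * s) = b r s := by
  choose g hg using fun r : F => hs (D.X r)
  have h1 : ∀ x y r s, π x = D.X r → π y = D.X s →
      x * y * x⁻¹ * y⁻¹ = g r * g s * (g r)⁻¹ * (g s)⁻¹ := by
    intro x y r s hx hy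
    exact comm_eq hc (hx.trans (hg r).symm) (hy.trans (hg s).symm)
  refine ⟨fun r s => g r * g s * (g r)⁻¹ * (g s)⁻¹, fun r s => comm_mem (hg r) (hg s), h1, ?_, ?_,
    ?_⟩
  · intro r r' s
    show g (r + r') * g s * (g (r + r'))⁻¹ * (g s)⁻¹ = _
    rw [← h1 (g r * g r') (g s) (r + r') s (by rw [map_mul, hg, hg, D.X_add]) (hg s)]
    exact comm_mul_left hc (comm_mem (hg r') (hg s))
  · intro r s s'
    show g r * g (s + s') * (g r)⁻¹ * (g (s + s'))⁻¹ = _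
    rw [← h1 (g r) (g s * g s') r (s + s') (hg r) (by rw [map_mul, hg, hg, D.X_add])]
    exact comm_mul_right hc (comm_mem (hg r) (hg s'))
  · intro a r s
    obtain ⟨t, ht⟩ := hs (D.T a)
    have h2 : ∀ r, π (t * g r * t⁻¹) = D.X ((a : F) ^ 2 * r) := by
      intro r
      rw [map_mul, map_mul, map_inv, ht, hg, D.T_X]
    show g _ * g _ * (g _)⁻¹ * (g _)⁻¹ = _
    rw [← h1 _ _ _ _ (h2 r) (h2 s)]
    have h3 := Subgroup.mem_center_iff.1 (hc (comm_mem (hg r) (hg s)))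
    calc t * g r * t⁻¹ * (t * g s * t⁻¹) * (t * g r * t⁻¹)⁻¹ * (t * g s * t⁻¹)⁻¹
        = t * (g r * g s * (g r)⁻¹ * (g s)⁻¹) * t⁻¹ := by group
      _ = _ := by rw [h3, mul_inv_cancel_right]

/-- If there are nonzero squares `c`, `c + 1` with `c² + c + 1 ≠ 0`, then the preimage of the
unipotent group is abelian. -/
theorem comm_of_squares (D : Fr S F) (hs : Function.Surjective π)
    (hc : π.ker ≤ Subgroup.center Q) (a e : Fˣ) (hae : (a : F) ^ 2 + 1 = (e : F) ^ 2)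
    (h0 : ((a : F) ^ 2) ^ 2 + (a : F) ^ 2 + 1 ≠ 0) :
    ∀ x ∈ V D π, ∀ y ∈ V D π, x * y = y * x := by
  obtain ⟨b, hb, hb1, hb2, hb3, hb4⟩ := exists_pairing D hs hc
  have hcomm : ∀ r s (q : Q), q * b r s = b r s * q := fun r s =>
    Subgroup.mem_center_iff.1 (hc (hb r s))
  set c : F := (a : F) ^ 2 with hcdef
  have hc0 : c ≠ 0 := pow_ne_zero 2 a.ne_zero
  have hone : ∀ r s, b r s = 1 := by
    have key : ∀ r s, b ((c + c⁻¹ + 1) * r) s = 1 := by
      intro r s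
      have e1 : b ((c + 1) * r) ((c + 1) * s) = b r s := by
        rw [hae]; exact hb4 e r s
      have e2 : (c + 1) * r = c * r + r := by ring
      have e3 : (c + 1) * s = c * s + s := by ring
      rw [e2, e3, hb2, hb3, hb3, hb4 a r s] at e1
      have e4 : b r (c * s) = b (c⁻¹ * r) s := by
        have := hb4 a (c⁻¹ * r) s
        rw [← hcdef, mul_inv_cancel_left₀ hc0] at this
        exact this
      have e5 : (c + c⁻¹ + 1) * r = c * r + c⁻¹ * r + r := by ring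
      rw [e5, hb2, hb2, ← e4]
      -- `b r s * b (c r) s * (b r (c s) * b r s) = b r s`
      have e6 : b (c * r) s * (b r (c * s) * b r s) = 1 := by
        rw [mul_assoc] at e1
        exact mul_eq_left.1 e1
      rw [mul_assoc]
      exact e6
    intro r s
    have h1 : c + c⁻¹ + 1 ≠ 0 := by
      intro h
      apply h0
      have : c ^ 2 + c + 1 = c * (c + c⁻¹ + 1) := by
        field_simp
        ring
      rw [this, h, mul_zero]
    have := key ((c + c⁻¹ + 1)⁻¹ * r) s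
    rwa [mul_inv_cancel_left₀ h1] at this
  rintro x ⟨r, hr⟩ y ⟨s, hs'⟩
  have h1 := hb1 x y r s hr hs'
  rw [hone, mul_inv_eq_one, mul_inv_eq_iff_eq_mul] at h1
  exact h1

end Comm

end Cfsg.Agent.H525.L2
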