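import Cfsg.Agent.H525.L2.Unip

/-!
# Degrees over a central character when the preimage of the unipotent group is abelian
-/

set_option autoImplicit false
set_option linter.unusedSectionVars false

namespace Cfsg.Agent.H525.L2

open Cfsg
open scoped ComplexConjugate
open Cfsg.Agent.Characters.Core

universe u

variable {Q S : Type u} [Group Q] [Group S] {F : Type} [Field F] {D : Fr S F} {π : Q →* S}

theorem comm_of_coprime (hs : Function.Surjective π)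
    (hc : π.ker ≤ Subgroup.center Q) {l : π.ker →* ℂˣ} (hl : Function.Injective l)
    {p : ℕ} (hp : p.Prime) (hpF : (p : F) = 0) {β : Q → ℂ} (hβ : IsIrrCharacter Q β)
    (ho : Over π l β) {d : ℕ} (hd : β 1 = d) (hpd : ¬ p ∣ d) :
    ∀ x ∈ V D π, ∀ y ∈ V D π, x * y = y * x := by
  obtain ⟨b, hb, hb1, hb2, hb3, hb4⟩ := exists_pairing D hs hc
  have hzero : ∀ s, b 0 s = 1 := by
    intro s
    have := hb2 0 0 s
    rw [add_zero] at this
    exact (mul_eq_left.1 this.symm)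
  have hnat : ∀ (n : ℕ) r s, b ((n : F) * r) s = b r s ^ n := by
    intro n r s
    induction n with
    | zero => rw [Nat.cast_zero, zero_mul, hzero, pow_zero]
    | succ n ih => rw [Nat.cast_succ, add_mul, one_mul, hb2, ih, pow_succ]
  rintro x ⟨r, hr⟩ y ⟨s, hs'⟩
  have h1 := hb1 x y r s hr hs'
  have h2 : (x * y * x⁻¹ * y⁻¹) ^ p = 1 := by
    rw [h1, ← hnat, hpF, zero_mul, hzero]
  have h3 := pow_commutator hc hl hβ ho hd x y (comm_mem hr hs')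
  have h4 : x * y * x⁻¹ * y⁻¹ = 1 := by
    have h5 : orderOf (x * y * x⁻¹ * y⁻¹) ∣ Nat.gcd p d :=
      Nat.dvd_gcd (orderOf_dvd_of_pow_eq_one h2) (orderOf_dvd_of_pow_eq_one h3)
    rw [(Nat.Prime.coprime_iff_not_dvd hp).2 hpd, Nat.dvd_one, orderOf_eq_one_iff] at h5
    exact h5
  rw [mul_inv_eq_one, mul_inv_eq_iff_eq_mul] at h4
  exact h4

/-- The lower bound for the degrees. -/
theorem deg_ge [Finite Q] [IsSimpleGroup S] (hs : Function.Surjective π)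
    (hc : π.ker ≤ Subgroup.center Q) {l : π.ker →* ℂˣ}
    (hV : ∀ x ∈ V D π, ∀ y ∈ V D π, x * y = y * x) (a : Fˣ) {n : ℕ} (hn1 : 1 < n)
    (hn : ∀ k, 0 < k → k < n → (((a ^ k : Fˣ) : F)) ^ 2 ≠ 1) {β : Q → ℂ}
    (hβ : IsIrrCharacter Q β) (ho : Over π l β) {d : ℕ} (hd : β 1 = d) (hd1 : d ≠ 1) : n ≤ d := by
  by_contra hlt
  push Not at hlt
  obtain ⟨t, ht⟩ := hs (D.T a)
  have hconj : ∀ (k : ℕ) (v : Q) (r : F), π v = D.X r →
      π (t ^ k * v * (t ^ k)⁻¹) = D.X ((((a ^ k : Fˣ) : F)) ^ 2 * r) := by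
    intro k v r hv
    rw [map_mul, map_mul, map_inv, map_pow, ht, hv, D.T_pow, D.T_X]
  have h1 : ∀ x ∈ V D π, t * x * t⁻¹ ∈ V D π := by
    rintro x ⟨r, hr⟩
    have := hconj 1 x r hr
    rw [pow_one] at this
    exact ⟨_, this⟩
  have h2 : ∀ k, 0 < k → k < n → ∀ u ∈ V D π, ∃ v ∈ V D π, ∃ z ∈ π.ker,
      u = t ^ k * v * (t ^ k)⁻¹ * v⁻¹ * z := by
    rintro k hk0 hkn u ⟨r, hr⟩
    have h3 : (((a ^ k : Fˣ) : F)) ^ 2 - 1 ≠ 0 := sub_ne_zero.2 (hn k hk0 hkn)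
    obtain ⟨v, hv⟩ := hs (D.X (((((a ^ k : Fˣ) : F)) ^ 2 - 1)⁻¹ * r))
    refine ⟨v, ⟨_, hv⟩, (t ^ k * v * (t ^ k)⁻¹ * v⁻¹)⁻¹ * u, ?_, by rw [mul_inv_cancel_left]⟩
    rw [MonoidHom.mem_ker, map_mul, map_inv, inv_mul_eq_one, map_mul, hconj k v _ hv, map_inv, hv,
      ← D.X_neg, ← D.X_add, hr]
    congr 1
    field_simp
    ring
  obtain ⟨x, hx⟩ := hs (D.X 1)
  have h3 := torus (isIrr_isCharacter hβ) (V D π) hV t h1 π.ker hc (ker_le_V D π) n h2 d hd hlt x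
    ⟨1, hx⟩
  obtain ⟨m, ρ, hρ, rfl, hz⟩ := exists_rep hc hβ ho
  rw [Representation.char_one (ρ := ρ)] at h3 hd
  have h4 := (Cfsg.Agent.Characters.Values.character_eq_finrank_iff ρ _).1 h3
  have h5 : π (t * x * t⁻¹ * x⁻¹) ≠ 1 := by
    have h6 := hconj 1 x 1 hx
    rw [pow_one] at h6
    rw [map_mul, h6, map_inv, hx, ← D.X_neg, ← D.X_add]
    intro h7
    have h8 := D.X_eq_one h7
    apply hn 1 one_pos hn1
    linear_combination h8
  have h6 := eq_one_of_scalar hs hρ hz h5 (c := 1) (by rw [h4, one_smul]; rfl)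
  rw [Module.finrank_fin_fun] at hd
  apply hd1
  rw [← h6]
  exact_mod_cast hd.symm

end Cfsg.Agent.H525.L2
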